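import Mathlib.Algebra.Homology.ShortComplex.Limits
import Mathlib.Algebra.Homology.ShortComplex.HomologicalComplex
import Mathlib.CategoryTheory.Abelian.GrothendieckAxioms.Colim
import Mathlib.CategoryTheory.Abelian.FunctorCategory
import Mathlib.Algebra.Homology.HomologicalComplexLimits
import Mathlib.Algebra.Homology.ShortComplex.ExactFunctor

/-!
# Homology commutes with exact colimits
-/

universe w w' v u

namespace Groth.Agent.Lib.Tor.HomologyColim

open CategoryTheory CategoryTheory.Limits

variable {J : Type w} [Category.{w'} J] {C : Type u} [Category.{v} C] [Abelian C]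
  [HasColimitsOfShape J C] [HasExactColimitsOfShape J C]

/-- The natural map from opcycles to the third term. -/
noncomputable def fromOpcyclesNat :
    ShortComplex.opcyclesFunctor C ⟶ ShortComplex.π₃ where
  app S := S.fromOpcycles
  naturality X Y f := by
    change ShortComplex.opcyclesMap f ≫ Y.fromOpcycles = X.fromOpcycles ≫ f.τ₃
    rw [← cancel_epi X.pOpcycles]; simp [f.comm₂₃]

/-- The natural inclusion of homology into opcycles. -/
noncomputable def homologyιNat :
    ShortComplex.homologyFunctor C ⟶ ShortComplex.opcyclesFunctor C where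
  app S := S.homologyι
  naturality _ _ f := ShortComplex.homologyι_naturality f

lemma exact_fun (F : J ⥤ ShortComplex C)
    (w : (Functor.whiskerLeft F homologyιNat) ≫
      Functor.whiskerLeft F fromOpcyclesNat = 0) :
    (ShortComplex.mk _ _ w).Exact := by
  rw [ShortComplex.exact_iff_isZero_homology]
  apply Functor.isZero
  intro j
  have h : (ShortComplex.mk (F.obj j).homologyι (F.obj j).fromOpcycles
      (F.obj j).homologyι_comp_fromOpcycles).Exact :=
    ShortComplex.exact_of_f_is_kernel _ (F.obj j).homologyIsKernel
  exact (((ShortComplex.exact_iff_isZero_homology _).1 h).of_iso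
    ((ShortComplex.mk _ _ w).mapHomologyIso ((evaluation J C).obj j)).symm)

/-- The opcycles of the cocone point. -/
noncomputable def opcyclesIsColimit (F : J ⥤ ShortComplex C) {c : Cocone F} (hc : IsColimit c) :
    IsColimit ((ShortComplex.opcyclesFunctor C).mapCocone c) :=
  have hc₁ : IsColimit (ShortComplex.π₁.mapCocone c) := isColimitOfPreserves _ hc
  have hc₂ : IsColimit (ShortComplex.π₂.mapCocone c) := isColimitOfPreserves _ hc
  let d : ∀ s : Cocone (F ⋙ ShortComplex.opcyclesFunctor C), c.pt.X₂ ⟶ s.pt := fun s =>
    hc₂.desc (Cocone.mk s.pt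
      { app := fun j => (F.obj j).pOpcycles ≫ s.ι.app j
        naturality := fun i j f => by
          dsimp
          rw [Category.comp_id, ← s.w f]
          exact (ShortComplex.p_opcyclesMap_assoc (F.map f) _).symm })
  have hd : ∀ s j, (c.ι.app j).τ₂ ≫ d s = (F.obj j).pOpcycles ≫ s.ι.app j := fun _ j =>
    hc₂.fac _ j
  have hd0 : ∀ s, c.pt.f ≫ d s = 0 := fun s => hc₁.hom_ext (fun j => by
    change (c.ι.app j).τ₁ ≫ c.pt.f ≫ d s = (c.ι.app j).τ₁ ≫ 0
    refine Eq.trans ?_ comp_zero.symm
    refine ((Category.assoc _ _ _).symm.trans ((congrArg (· ≫ d s) (c.ι.app j).comm₁₂).trans (Category.assoc _ _ _))).trans ?_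
    refine (congrArg ((F.obj j).f ≫ ·) (hd s j)).trans ?_
    exact (Category.assoc _ _ _).symm.trans ((congrArg (· ≫ s.ι.app j)
      (F.obj j).f_pOpcycles).trans zero_comp))
  { desc := fun s => c.pt.descOpcycles (d s) (hd0 s)
    fac := fun s j => by
      refine (cancel_epi (F.obj j).pOpcycles).1 ?_
      refine (ShortComplex.p_opcyclesMap_assoc (c.ι.app j) _).trans ?_
      refine (congrArg ((c.ι.app j).τ₂ ≫ ·) (ShortComplex.p_descOpcycles _ _ _)).trans ?_
      exact hd s j
    uniq := fun s m hm => by
      refine (cancel_epi c.pt.pOpcycles).1 (Eq.trans ?_ (ShortComplex.p_descOpcycles _ _ _).symm)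
      refine hc₂.hom_ext (fun j => ?_)
      refine Eq.trans ?_ (hd s j).symm
      rw [← hm j]
      exact (ShortComplex.p_opcyclesMap_assoc (c.ι.app j) m).symm }

lemma isIso_desc (F : J ⥤ ShortComplex C) {c : Cocone F} (hc : IsColimit c) :
    IsIso ((colimit.isColimit (F ⋙ ShortComplex.homologyFunctor C)).desc
      ((ShortComplex.homologyFunctor C).mapCocone c)) := by
  have : PreservesFiniteLimits (colim : (J ⥤ C) ⥤ C) := HasExactColimitsOfShape.preservesFiniteLimits
  let m := (colimit.isColimit (F ⋙ ShortComplex.homologyFunctor C)).desc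
      ((ShortComplex.homologyFunctor C).mapCocone c)
  have hm : ∀ j, colimit.ι (F ⋙ ShortComplex.homologyFunctor C) j ≫ m =
      ShortComplex.homologyMap (c.ι.app j) := fun j =>
    (colimit.isColimit _).fac _ j
  have w : (Functor.whiskerLeft F homologyιNat) ≫
      Functor.whiskerLeft F fromOpcyclesNat = 0 := by
    ext j
    exact (F.obj j).homologyι_comp_fromOpcycles
  have hq := opcyclesIsColimit F hc
  have hmono : Mono (m ≫ c.pt.homologyι) := by
    have : ∀ j, Mono ((Functor.whiskerLeft F homologyιNat).app j) := fun j =>
      inferInstanceAs (Mono (F.obj j).homologyι)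
    have : Mono (Functor.whiskerLeft F homologyιNat) :=
      NatTrans.mono_of_mono_app _
    refine colim.map_mono' (Functor.whiskerLeft F homologyιNat)
      (colimit.isColimit _) hq (m ≫ c.pt.homologyι) (fun j => ?_)
    dsimp
    refine ((Category.assoc _ _ _).symm.trans (congrArg (· ≫ c.pt.homologyι) (hm j))).trans ?_
    exact ShortComplex.homologyι_naturality (c.ι.app j)
  have he : (ShortComplex.mk (m ≫ c.pt.homologyι) c.pt.fromOpcycles
      ((Category.assoc _ _ _).trans ((congrArg (m ≫ ·) c.pt.homologyι_comp_fromOpcycles).trans comp_zero))).Exact := by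
    exact colim.exact_mapShortComplex (exact_fun F w) (colimit.isColimit _) hq
      (isColimitOfPreserves ShortComplex.π₃ hc) (m ≫ c.pt.homologyι) c.pt.fromOpcycles
      (fun j => by
        refine ((Category.assoc _ _ _).symm.trans (congrArg (· ≫ c.pt.homologyι) (hm j))).trans ?_
        exact ShortComplex.homologyι_naturality (c.ι.app j))
      (fun j => by
        exact fromOpcyclesNat.naturality (c.ι.app j))
  let e := IsLimit.conePointUniqueUpToIso he.fIsKernel c.pt.homologyIsKernel
  have : m = e.hom := by
    refine (cancel_mono c.pt.homologyι).1 ?_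
    exact (IsLimit.conePointUniqueUpToIso_hom_comp he.fIsKernel c.pt.homologyIsKernel
      WalkingParallelPair.zero).symm
  change IsIso m
  rw [this]
  exact e.isIso_hom

/-- Homology of short complexes preserves exact colimits. -/
instance preservesColimitsOfShape_homologyFunctor :
    PreservesColimitsOfShape J (ShortComplex.homologyFunctor C) where
  preservesColimit {F} := ⟨fun {c} hc => ⟨by
    have := isIso_desc F hc
    exact IsColimit.ofPointIso (colimit.isColimit (F ⋙ ShortComplex.homologyFunctor C))⟩⟩

/-- Evaluation-wise criterion for homology of complexes. -/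
instance preservesColimitsOfShape_cxHomologyFunctor {ι : Type*} (c : ComplexShape ι) (i : ι) :
    PreservesColimitsOfShape J (HomologicalComplex.homologyFunctor C c i) := by
  have : PreservesColimitsOfShape J (HomologicalComplex.shortComplexFunctor C c i) :=
    { preservesColimit := fun {F} => ⟨fun {s} hs => ⟨ShortComplex.isColimitOfIsColimitπ _
        (isColimitOfPreserves (HomologicalComplex.eval C c (c.prev i)) hs)
        (isColimitOfPreserves (HomologicalComplex.eval C c i) hs)
        (isColimitOfPreserves (HomologicalComplex.eval C c (c.next i)) hs)⟩⟩ }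
  exact preservesColimitsOfShape_of_natIso
    (HomologicalComplex.homologyFunctorIso C c i).symm

end Groth.Agent.Lib.Tor.HomologyColim
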