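import Groth.Agent.Lib.Tor.DimShift
import Mathlib.CategoryTheory.Monoidal.Tor
import Mathlib.Algebra.Homology.HomologicalComplexAbelian
import Mathlib.Algebra.Category.ModuleCat.Monoidal.Closed
import Mathlib.Algebra.Category.ModuleCat.Monoidal.Basic
import Mathlib.Algebra.Category.ModuleCat.Monoidal.Symmetric
import Mathlib.Algebra.Category.ModuleCat.Projective
import Mathlib.Algebra.Category.ModuleCat.AB
import Mathlib.RingTheory.Flat.CategoryTheory

/-!
# Tor of modules: flat vanishing and balancing
-/

universe u

namespace Groth.Agent.Lib.Tor.Balance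

open CategoryTheory CategoryTheory.Limits MonoidalCategory

variable {A : Type u} [CommRing A]

/-- `X ↦ P ⊗ X` as a functor to chain complexes. -/
@[simps]
noncomputable def tensorCxFun (P : ChainComplex (ModuleCat.{u} A) ℕ) :
    ModuleCat.{u} A ⥤ ChainComplex (ModuleCat.{u} A) ℕ where
  obj X := ((tensorRight X).mapHomologicalComplex _).obj P
  map {X Y} f :=
    (NatTrans.mapHomologicalComplex ((tensoringRight (ModuleCat.{u} A)).map f) _).app P
  map_id X := by ext i : 1; simp
  map_comp f g := by ext i : 1; simp

instance tensorCxFun_preservesZero (P : ChainComplex (ModuleCat.{u} A) ℕ) :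
    (tensorCxFun P).PreservesZeroMorphisms where
  map_zero X Y := by
    ext i : 1
    exact MonoidalPreadditive.whiskerLeft_zero

lemma flat_of_projective (M : ModuleCat.{u} A) [Projective M] : Module.Flat A M := by
  have : Module.Projective A M := (IsProjective.iff_projective M).2 ‹_›
  infer_instance

instance tensorLeft_preservesHomology (M : ModuleCat.{u} A) [Module.Flat A M] :
    (tensorLeft M).PreservesHomology :=
  ((Functor.exact_tfae (tensorLeft M)).out 3 2 : PreservesFiniteLimits (tensorLeft M) ∧
    PreservesFiniteColimits (tensorLeft M) ↔ (tensorLeft M).PreservesHomology).mp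
    ⟨inferInstance, inferInstance⟩

instance tensorRight_preservesHomology (M : ModuleCat.{u} A) [Module.Flat A M] :
    (tensorRight M).PreservesHomology :=
  ((Functor.exact_tfae (tensorRight M)).out 3 2 : PreservesFiniteLimits (tensorRight M) ∧
    PreservesFiniteColimits (tensorRight M) ↔ (tensorRight M).PreservesHomology).mp
    ⟨inferInstance, preservesFiniteColimits_of_natIso (BraidedCategory.tensorLeftIsoTensorRight M)⟩

lemma shortExact_tensorCxFun (P : ChainComplex (ModuleCat.{u} A) ℕ)
    (hP : ∀ i, Module.Flat A (P.X i)) (S : ShortComplex (ModuleCat.{u} A)) (hS : S.ShortExact) :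
    (S.map (tensorCxFun P)).ShortExact := by
  refine HomologicalComplex.shortExact_of_degreewise_shortExact _ (fun i => ?_)
  have := hP i
  have hmono : Mono (S.f) := hS.mono_f
  have hepi : Epi (S.g) := hS.epi_g
  exact ShortComplex.shortExact_of_iso (Iso.refl _) (hS.map_of_exact (tensorLeft (P.X i)))

lemma isZero_homology_succ_of_exactAt (P : ChainComplex (ModuleCat.{u} A) ℕ)
    (hex : ∀ n, P.ExactAt (n + 1)) (F : ModuleCat.{u} A ⥤ ModuleCat.{u} A) [F.Additive]
    [F.PreservesHomology] (n : ℕ) :
    IsZero (((F.mapHomologicalComplex _).obj P).homology (n + 1)) :=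
  HomologicalComplex.ExactAt.isZero_homology ((hex n).map F)

lemma augmented_exact {M : ModuleCat.{u} A} (P : ChainComplex (ModuleCat.{u} A) ℕ)
    (π : P ⟶ (ChainComplex.single₀ (ModuleCat.{u} A)).obj M) [QuasiIso π] (n : ℕ) :
    P.ExactAt (n + 1) := by
  rw [← quasiIsoAt_iff_exactAt' π (n + 1) (ChainComplex.exactAt_succ_single_obj _ _)]
  infer_instance

variable {M : ModuleCat.{u} A}

/-- Given a flat resolution `P` of `M`, the cokernel property of the augmentation. -/
noncomputable def augIsColimit (P : ChainComplex (ModuleCat.{u} A) ℕ)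
    (ε : P.X 0 ⟶ M) (w : P.d 1 0 ≫ ε = 0) (he : Epi ε)
    (hex : (ShortComplex.mk _ _ w).Exact) :
    IsColimit (CokernelCofork.ofπ ε w) :=
  have := he
  hex.gIsCokernel

/-- The comparison map `H₀(P ⊗ X) ≅ M ⊗ X`. -/
noncomputable def zeroIso (P : ChainComplex (ModuleCat.{u} A) ℕ)
    (ε : P.X 0 ⟶ M) (w : P.d 1 0 ≫ ε = 0) (he : Epi ε)
    (hex : (ShortComplex.mk _ _ w).Exact) :
    tensorCxFun P ⋙ HomologicalComplex.homologyFunctor _ (ComplexShape.down ℕ) 0 ≅ tensorLeft M :=
  let g : ∀ X, ((tensorCxFun P).obj X).opcycles 0 ⟶ M ⊗ X := fun X =>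
    ((tensorCxFun P).obj X).descOpcycles (ε ▷ X) 1 (by simp) (by
      change P.d 1 0 ▷ X ≫ ε ▷ X = 0
      rw [← comp_whiskerRight, w]; simp)
  have hg : ∀ X, ((tensorCxFun P).obj X).pOpcycles 0 ≫ g X = ε ▷ X := fun X =>
    HomologicalComplex.p_descOpcycles _ _ _ _ _
  have hiso : ∀ X, IsIso (g X) := fun X => by
    have h1 := ((tensorCxFun P).obj X).opcyclesIsCokernel 1 0 (by simp)
    have hp : PreservesFiniteColimits (tensorRight X) :=
      preservesFiniteColimits_of_natIso (BraidedCategory.tensorLeftIsoTensorRight X)
    have h2 := CokernelCofork.mapIsColimit _ (augIsColimit P ε w he hex) (tensorRight X)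
    have : g X = (h1.coconePointUniqueUpToIso h2).hom := by
      refine (cancel_epi (((tensorCxFun P).obj X).pOpcycles 0)).1 ?_
      rw [hg X]
      exact (h1.comp_coconePointUniqueUpToIso_hom h2 WalkingParallelPair.one).symm
    rw [this]
    exact (h1.coconePointUniqueUpToIso h2).isIso_hom
  NatIso.ofComponents
    (fun X => ((tensorCxFun P).obj X).isoHomologyι₀ ≪≫ @asIso _ _ _ _ (g X) (hiso X))
    (fun {X Y} f => by
      change HomologicalComplex.homologyMap ((tensorCxFun P).map f) 0 ≫
          (((tensorCxFun P).obj Y).homologyι 0 ≫ g Y) =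
        (((tensorCxFun P).obj X).homologyι 0 ≫ g X) ≫ M ◁ f
      rw [HomologicalComplex.homologyι_naturality_assoc, Category.assoc]
      congr 1
      rw [← cancel_epi (((tensorCxFun P).obj X).pOpcycles 0),
        HomologicalComplex.p_opcyclesMap_assoc, hg Y, ← Category.assoc, hg X]
      exact whisker_exchange ε f)

/-- A complex of flat modules which is a resolution of `M` computes `Tor(M, -)`, naturally. -/
noncomputable def torIsoOfFlatResolution (P : ChainComplex (ModuleCat.{u} A) ℕ)
    (hflat : ∀ i, Module.Flat A (P.X i)) (hexact : ∀ n, P.ExactAt (n + 1))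
    (ε : P.X 0 ⟶ M) (w : P.d 1 0 ≫ ε = 0) (he : Epi ε)
    (hex : (ShortComplex.mk _ _ w).Exact) (n : ℕ) :
    tensorCxFun P ⋙ HomologicalComplex.homologyFunctor _ (ComplexShape.down ℕ) n ≅
      (CategoryTheory.Tor (ModuleCat.{u} A) n).obj M :=
  DimShift.leftDerivedIso (T := (tensoringLeft (ModuleCat.{u} A)).obj M)
    { shortExact := shortExact_tensorCxFun P hflat
      acyclic := fun X hX m =>
        have := flat_of_projective X
        isZero_homology_succ_of_exactAt P hexact (tensorRight X) m
      zero := zeroIso P ε w he hex } n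

lemma resolution_exact_zero (P : ProjectiveResolution M) :
    (ShortComplex.mk _ _ P.complex_d_comp_π_f_zero).Exact :=
  ShortComplex.exact_of_g_is_cokernel _ P.isColimitCokernelCofork

/-- A projective resolution `P` of `M` computes `Tor(M, -)`, naturally in the second variable. -/
noncomputable def torIsoOfResolution (P : ProjectiveResolution M) (n : ℕ) :
    tensorCxFun P.complex ⋙ HomologicalComplex.homologyFunctor _ (ComplexShape.down ℕ) n ≅
      (CategoryTheory.Tor (ModuleCat.{u} A) n).obj M :=
  torIsoOfFlatResolution P.complex (fun i => flat_of_projective (P.complex.X i))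
    P.complex_exactAt_succ (P.π.f 0) P.complex_d_comp_π_f_zero inferInstance
    (resolution_exact_zero P) n

/-- Balancing: `Tor_n(M, N)` is computed by a projective resolution of the first variable. -/
noncomputable def torObjIso (P : ProjectiveResolution M) (N : ModuleCat.{u} A) (n : ℕ) :
    ((CategoryTheory.Tor (ModuleCat.{u} A) n).obj M).obj N ≅
      (((tensorRight N).mapHomologicalComplex (ComplexShape.down ℕ)).obj P.complex).homology n :=
  ((torIsoOfResolution P n).app N).symm

/-- `Tor = Tor'` objectwise in the first variable, naturally in the second. -/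
noncomputable def torObjIsoLeftDerived (M N : ModuleCat.{u} A) (n : ℕ) :
    ((CategoryTheory.Tor (ModuleCat.{u} A) n).obj M).obj N ≅
      ((tensorRight N).leftDerived n).obj M :=
  torObjIso (projectiveResolution M) N n ≪≫
    ((projectiveResolution M).isoLeftDerivedObj (tensorRight N) n).symm

/-- Symmetry of Tor. -/
noncomputable def torFlipIso (M N : ModuleCat.{u} A) (n : ℕ) :
    ((CategoryTheory.Tor (ModuleCat.{u} A) n).obj M).obj N ≅
      ((CategoryTheory.Tor (ModuleCat.{u} A) n).obj N).obj M :=
  torObjIso (projectiveResolution M) N n ≪≫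
    (HomologicalComplex.homologyFunctor _ (ComplexShape.down ℕ) n).mapIso
      ((NatIso.mapHomologicalComplex (BraidedCategory.tensorLeftIsoTensorRight N).symm _).app
        (projectiveResolution M).complex) ≪≫
    ((projectiveResolution M).isoLeftDerivedObj
      ((tensoringLeft (ModuleCat.{u} A)).obj N) n).symm

/-- Higher Tor vanishes when the first variable is flat. -/
lemma isZero_tor_succ_of_flat_left (M N : ModuleCat.{u} A) [Module.Flat A M] (n : ℕ) :
    IsZero (((CategoryTheory.Tor (ModuleCat.{u} A) (n + 1)).obj M).obj N) :=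
  (isZero_homology_succ_of_exactAt (projectiveResolution N).complex
    (projectiveResolution N).complex_exactAt_succ (tensorLeft M) n).of_iso
    ((projectiveResolution N).isoLeftDerivedObj ((tensoringLeft (ModuleCat.{u} A)).obj M) (n + 1))

/-- Higher Tor vanishes when the second variable is flat. -/
lemma isZero_tor_succ_of_flat_right (M N : ModuleCat.{u} A) [Module.Flat A N] (n : ℕ) :
    IsZero (((CategoryTheory.Tor (ModuleCat.{u} A) (n + 1)).obj M).obj N) :=
  (isZero_tor_succ_of_flat_left N M n).of_iso (torFlipIso M N (n + 1))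

end Groth.Agent.Lib.Tor.Balance
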