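import Groth.Agent.Lib.Tor.Balance
import Groth.Agent.Lib.LocalFlat.Basic
import Mathlib.RingTheory.Localization.Away.Basic
import Mathlib.RingTheory.IsTensorProduct
import Mathlib.RingTheory.Localization.BaseChange
import Mathlib.RingTheory.Flat.Localization
import Mathlib.RingTheory.Finiteness.Ideal
import Mathlib.Algebra.Module.Torsion.Basic
import Mathlib.LinearAlgebra.TensorProduct.Associator
import Mathlib.LinearAlgebra.DirectSum.Finsupp

/-!
# Flatness from flatness on `D(f_i)` and vanishing of Tor against `A ⧸ (f)`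
-/

universe u

open CategoryTheory CategoryTheory.Limits TensorProduct

namespace Groth.Agent.Lib.Tor.FlatOfTorsion

variable {A : Type u} [CommRing A]

/-- Cycles in degree `i + 1` of `P ⊗ N` are boundaries. -/
def Z (P : ChainComplex (ModuleCat.{u} A) ℕ) (i : ℕ) (N : Type u) [AddCommGroup N] [Module A N] : Prop :=
  ∀ z : P.X (i + 1) ⊗[A] N, LinearMap.rTensor N (P.d (i + 1) i).hom z = 0 →
    ∃ w : P.X (i + 2) ⊗[A] N, LinearMap.rTensor N (P.d (i + 2) (i + 1)).hom w = z

variable {P : ChainComplex (ModuleCat.{u} A) ℕ} {N₁ N₂ N₃ : Type u} [AddCommGroup N₁] [Module A N₁]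
  [AddCommGroup N₂] [Module A N₂] [AddCommGroup N₃] [Module A N₃] {i : ℕ}

theorem comm (f : N₁ →ₗ[A] N₂) (j k : ℕ) (x : P.X j ⊗[A] N₁) :
    LinearMap.rTensor N₂ (P.d j k).hom (LinearMap.lTensor _ f x) =
      LinearMap.lTensor _ f (LinearMap.rTensor N₁ (P.d j k).hom x) :=
  LinearMap.congr_fun ((LinearMap.rTensor_comp_lTensor _ _ _).trans (LinearMap.lTensor_comp_rTensor _ _ _).symm) x

theorem dd (j k l : ℕ) (x : P.X j ⊗[A] N₁) :
    LinearMap.rTensor N₁ (P.d k l).hom (LinearMap.rTensor N₁ (P.d j k).hom x) = 0 := by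
  rw [← LinearMap.comp_apply, ← LinearMap.rTensor_comp, ← ModuleCat.hom_comp,
    HomologicalComplex.d_comp_d, ModuleCat.hom_zero, LinearMap.rTensor_zero, LinearMap.zero_apply]

section

variable (hf : ∀ j, Module.Flat A (P.X j)) (f : N₁ →ₗ[A] N₂) (g : N₂ →ₗ[A] N₃)
  (hinj : Function.Injective f) (hex : Function.Exact f g) (hsurj : Function.Surjective g)

include hf hinj hex hsurj in
theorem Z.mid (h₁ : Z P i N₁) (h₃ : Z P i N₃) : Z P i N₂ := fun z hz => by
  obtain ⟨w, hw⟩ := h₃ (LinearMap.lTensor _ g z) (by rw [comm, hz, map_zero])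
  obtain ⟨w', rfl⟩ := LinearMap.lTensor_surjective _ hsurj w
  obtain ⟨y, hy⟩ := (lTensor_exact (P.X (i + 1)) hex hsurj
    (z - LinearMap.rTensor N₂ (P.d (i + 2) (i + 1)).hom w')).1 (by rw [map_sub, ← comm, hw, sub_self])
  have := hf i
  obtain ⟨v, hv⟩ := h₁ y (Module.Flat.lTensor_preserves_injective_linearMap f hinj (by
    rw [map_zero, ← comm, hy, map_sub, hz, dd, sub_zero]))
  exact ⟨w' + LinearMap.lTensor _ f v, by rw [map_add, comm, hv, hy, add_sub_cancel]⟩

include hf hinj hex hsurj in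
theorem Z.right (h₂ : Z P (i + 1) N₂) (h₁ : Z P i N₁) : Z P (i + 1) N₃ := fun z hz => by
  obtain ⟨x, rfl⟩ := LinearMap.lTensor_surjective _ hsurj z
  obtain ⟨y, hy⟩ := (lTensor_exact (P.X (i + 1)) hex hsurj
    (LinearMap.rTensor N₂ (P.d (i + 2) (i + 1)).hom x)).1 (by rw [← comm, hz])
  have := hf i
  obtain ⟨v, hv⟩ := h₁ y (Module.Flat.lTensor_preserves_injective_linearMap f hinj (by
    rw [map_zero, ← comm, hy, dd]))
  obtain ⟨w, hw⟩ := h₂ (x - LinearMap.lTensor _ f v) (by rw [map_sub, comm, hv, hy, sub_self])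
  exact ⟨LinearMap.lTensor _ g w, by
    rw [comm, hw, map_sub, (lTensor_exact (P.X (i + 2)) hex hsurj).apply_apply_eq_zero, sub_zero]⟩

include hf hinj hex hsurj in
theorem Z.left (h₂ : Z P i N₂) (h₃ : Z P (i + 1) N₃) : Z P i N₁ := fun z hz => by
  obtain ⟨w, hw⟩ := h₂ (LinearMap.lTensor _ f z) (by rw [comm, hz, map_zero])
  obtain ⟨u', hu'⟩ := h₃ (LinearMap.lTensor _ g w) (by
    rw [comm, hw, (lTensor_exact (P.X (i + 1)) hex hsurj).apply_apply_eq_zero])
  obtain ⟨u'', rfl⟩ := LinearMap.lTensor_surjective _ hsurj u'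
  obtain ⟨v, hv⟩ := (lTensor_exact (P.X (i + 2)) hex hsurj
    (w - LinearMap.rTensor N₂ (P.d (i + 3) (i + 2)).hom u'')).1 (by rw [map_sub, ← comm, hu', sub_self])
  have := hf (i + 1)
  exact ⟨v, Module.Flat.lTensor_preserves_injective_linearMap f hinj (by
    rw [← comm, hv, map_sub, hw, dd, sub_zero])⟩

end

theorem Z.finsupp {ι : Type u} (h : Z P i N₁) : Z P i (ι →₀ N₁) := fun z hz => by
  classical
  obtain ⟨e, he⟩ : ∃ e : P.X (i + 1) ⊗[A] (ι →₀ N₁) ≃ₗ[A] (ι →₀ P.X (i + 1) ⊗[A] N₁),
      ∀ a x, e.symm (Finsupp.single a x) = LinearMap.lTensor _ (Finsupp.lsingle a) x :=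
    ⟨finsuppRight A A (P.X (i + 1)) N₁ ι, fun a x => by
      induction x using TensorProduct.induction_on with
      | zero => simp
      | tmul p q => simp
      | add u v hu hv => simp [Finsupp.single_add, map_add, hu, hv]⟩
  have hproj : ∀ a, e z a = LinearMap.lTensor _ (Finsupp.lapply a) z := fun a => by
    clear hz
    obtain ⟨y, rfl⟩ := e.symm.surjective z
    induction y using Finsupp.induction_linear with
    | zero => simp
    | add u v hu hv => simp only [map_add, Finsupp.add_apply, hu, hv]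
    | single b x =>
      rw [e.apply_symm_apply, he, ← LinearMap.comp_apply, ← LinearMap.lTensor_comp]
      rcases eq_or_ne b a with rfl | hne
      · simp
      · rw [Finsupp.single_eq_of_ne' hne, show Finsupp.lapply a ∘ₗ Finsupp.lsingle b = (0 : N₁ →ₗ[A] N₁) from
          LinearMap.ext fun m => by simp [Finsupp.single_eq_of_ne' hne], LinearMap.lTensor_zero, LinearMap.zero_apply]
  choose w hw using fun a => h (e z a) (by rw [hproj, comm, hz, map_zero])
  refine ⟨∑ a ∈ (e z).support, LinearMap.lTensor _ (Finsupp.lsingle a) (w a), ?_⟩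
  simp only [map_sum, comm, hw, ← he]
  rw [← map_sum]
  exact e.symm_apply_eq.2 (e z).sum_single

theorem Z.of_union (hf : ∀ j, Module.Flat A (P.X j)) (S : ℕ →o Submodule A N₁)
    (htop : ∀ x, ∃ k, x ∈ S k) (h : ∀ k, Z P i (S k)) : Z P i N₁ := fun z hz => by
  obtain ⟨k, x, rfl⟩ : ∃ k x, LinearMap.lTensor (P.X (i + 1)) (S k).subtype x = z := by
    clear hz
    induction z using TensorProduct.induction_on with
    | zero => exact ⟨0, 0, map_zero _⟩
    | tmul p q =>
      obtain ⟨k, hk⟩ := htop q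
      exact ⟨k, p ⊗ₜ ⟨q, hk⟩, rfl⟩
    | add u v hu hv =>
      obtain ⟨k, x, rfl⟩ := hu
      obtain ⟨l, y, rfl⟩ := hv
      refine ⟨max k l, LinearMap.lTensor _ (Submodule.inclusion (S.monotone (le_max_left k l))) x +
        LinearMap.lTensor _ (Submodule.inclusion (S.monotone (le_max_right k l))) y, ?_⟩
      rw [map_add, ← LinearMap.comp_apply, ← LinearMap.lTensor_comp, ← LinearMap.comp_apply,
        ← LinearMap.lTensor_comp, Submodule.subtype_comp_inclusion, Submodule.subtype_comp_inclusion]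
  have := hf i
  obtain ⟨w, hw⟩ := h k x (Module.Flat.lTensor_preserves_injective_linearMap _ (S k).injective_subtype (by
    rw [map_zero, ← comm, hz]))
  exact ⟨LinearMap.lTensor _ (S k).subtype w, by rw [comm, hw]⟩

variable (M : ModuleCat.{u} A) (Q : ProjectiveResolution M)

theorem z_of_isZero_tor (i : ℕ) (N : ModuleCat.{u} A)
    (h : IsZero (((CategoryTheory.Tor (ModuleCat.{u} A) (i + 1)).obj M).obj N)) : Z Q.complex i N := by
  have h' := (HomologicalComplex.exactAt_iff_isZero_homology _ _).2 (h.of_iso (Balance.torObjIso Q N (i + 1)).symm)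
  rw [HomologicalComplex.exactAt_iff' _ (i + 2) (i + 1) i (by simp) (by simp),
    ShortComplex.moduleCat_exact_iff_ker_sub_range] at h'
  exact fun z hz => h' hz

variable (a : A)

theorem z_localization (i : ℕ)
    (hflat : Module.Flat A ((M : Type u) ⊗[A] Localization.Away a)) (N : Type u) [AddCommGroup N] [Module A N] :
    Z Q.complex i (Localization.Away a ⊗[A] N) := by
  let L := ModuleCat.of A (Localization.Away a)
  let C := ((MonoidalCategory.tensorRight L).mapHomologicalComplex (ComplexShape.down ℕ)).obj Q.complex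
  have hL : Module.Flat A L := IsLocalization.flat (Localization.Away a) (Submonoid.powers a)
  have hC : ∀ j, Module.Flat A (C.X j) := fun j =>
    have := Balance.flat_of_projective (Q.complex.X j)
    inferInstanceAs (Module.Flat A (Q.complex.X j ⊗[A] L))
  have hexC : ∀ j, C.ExactAt (j + 1) := fun j => (Q.complex_exactAt_succ j).map (MonoidalCategory.tensorRight L)
  let ε₀ : Q.complex.X 0 →ₗ[A] M := (Q.π.f 0).hom
  have hεs : Function.Surjective ε₀ := (ModuleCat.epi_iff_surjective (Q.π.f 0)).1 inferInstance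
  have hεe : Function.Exact (Q.complex.d 1 0).hom ε₀ :=
    LinearMap.exact_iff.2 ((ShortComplex.moduleCat_exact_iff_range_eq_ker _).1 (Balance.resolution_exact_zero Q)).symm
  let T := ModuleCat.of A ((M : Type u) ⊗[A] Localization.Away a)
  let ε : C.X 0 ⟶ T := ModuleCat.ofHom (LinearMap.rTensor L ε₀)
  have hE := rTensor_exact (M := Q.complex.X 1) (N := Q.complex.X 0) L hεe hεs
  have w : C.d 1 0 ≫ ε = 0 := by
    refine ModuleCat.hom_ext (LinearMap.ext fun z => ?_)
    exact hE.apply_apply_eq_zero z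
  have hex : (ShortComplex.mk _ _ w).Exact :=
    (ShortComplex.moduleCat_exact_iff_ker_sub_range _).2 fun z hz => (hE z).1 hz
  have hiso := (Balance.torIsoOfFlatResolution C hC hexC ε w
    ((ModuleCat.epi_iff_surjective ε).2 (LinearMap.rTensor_surjective _ hεs)) hex (i + 1)).app (ModuleCat.of A N)
  have : Module.Flat A T := hflat
  have h' := (HomologicalComplex.exactAt_iff_isZero_homology _ _).2
    ((Balance.isZero_tor_succ_of_flat_left T (ModuleCat.of A N) i).of_iso hiso)
  rw [HomologicalComplex.exactAt_iff' _ (i + 2) (i + 1) i (by simp) (by simp),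
    ShortComplex.moduleCat_exact_iff_ker_sub_range] at h'
  intro z hz
  let θ : ∀ j, (Q.complex.X j ⊗[A] (Localization.Away a ⊗[A] N)) ≃ₗ[A]
      ((Q.complex.X j ⊗[A] Localization.Away a) ⊗[A] N) := fun j => (TensorProduct.assoc A _ _ _).symm
  have hθ : ∀ j k x, LinearMap.rTensor N (LinearMap.rTensor (Localization.Away a) (Q.complex.d j k).hom) (θ j x) =
      θ k (LinearMap.rTensor _ (Q.complex.d j k).hom x) := by
    intro j k x
    induction x using TensorProduct.induction_on with
    | zero => simp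
    | add u v hu hv => simp only [map_add, hu, hv]
    | tmul p q =>
      induction q using TensorProduct.induction_on with
      | zero => simp
      | add u v hu hv => simp only [TensorProduct.tmul_add, map_add, hu, hv]
      | tmul c n => simp [θ]
  obtain ⟨v, hv⟩ := h' (x := θ (i + 1) z) ((hθ (i + 1) i z).trans (by rw [hz, map_zero]; rfl))
  refine ⟨(θ (i + 2)).symm v, (θ (i + 1)).injective ?_⟩
  rw [← hθ, LinearEquiv.apply_symm_apply]
  exact hv

/-- Tor_1 vanishing against `A ⧸ J` for all `J` gives flatness. -/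
theorem flat_of_Z (h : ∀ J : Ideal A, Z Q.complex 0 (A ⧸ J)) : Module.Flat A M := by
  refine Module.Flat.iff_lTensor_injective'.2 fun J => ?_
  let ε₀ : Q.complex.X 0 →ₗ[A] M := (Q.π.f 0).hom
  have hεs : Function.Surjective ε₀ := (ModuleCat.epi_iff_surjective (Q.π.f 0)).1 inferInstance
  have hεe : Function.Exact (Q.complex.d 1 0).hom ε₀ :=
    LinearMap.exact_iff.2 ((ShortComplex.moduleCat_exact_iff_range_eq_ker _).1 (Balance.resolution_exact_zero Q)).symm
  rw [injective_iff_map_eq_zero]
  intro y hy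
  obtain ⟨y', rfl⟩ := LinearMap.rTensor_surjective J hεs y
  obtain ⟨p, hp⟩ := ((rTensor_exact (M := Q.complex.X 1) (N := Q.complex.X 0) A hεe hεs)
    (LinearMap.lTensor _ J.subtype y')).1 (by
      rw [← LinearMap.comp_apply, LinearMap.rTensor_comp_lTensor, ← LinearMap.lTensor_comp_rTensor,
        LinearMap.comp_apply, hy])
  have hmk : Function.Exact J.subtype J.mkQ := LinearMap.exact_subtype_mkQ J
  obtain ⟨w, hw⟩ := h J (LinearMap.lTensor _ J.mkQ p) (by
    rw [comm, hp, (lTensor_exact (Q.complex.X 0) hmk J.mkQ_surjective).apply_apply_eq_zero])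
  obtain ⟨w', rfl⟩ := LinearMap.lTensor_surjective _ J.mkQ_surjective w
  obtain ⟨v, hv⟩ := (lTensor_exact (Q.complex.X 1) hmk J.mkQ_surjective
    (p - LinearMap.rTensor A (Q.complex.d 2 1).hom w')).1 (by rw [map_sub, ← comm, hw, sub_self])
  have := Balance.flat_of_projective (Q.complex.X 0)
  have hy' : y' = LinearMap.rTensor J (Q.complex.d 1 0).hom v :=
    Module.Flat.lTensor_preserves_injective_linearMap (M := Q.complex.X 0) J.subtype J.injective_subtype
      (by rw [← comm, hv, map_sub, hp, dd, sub_zero])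
  rw [hy', (rTensor_exact (M := Q.complex.X 1) (N := Q.complex.X 0) J hεe hεs).apply_apply_eq_zero]

variable {I : Ideal A} [Module.Flat (A ⧸ I) ((A ⧸ I) ⊗[A] (M : Type u))]

theorem exists_cover (N : Type u) [AddCommGroup N] [Module A N] (hN : ∀ c ∈ I, ∀ x : N, c • x = 0) :
    ∃ (F : Type u) (_ : AddCommGroup F) (_ : Module A F) (π : F →ₗ[A] N), Function.Surjective π ∧
      (∀ c ∈ I, ∀ x : F, c • x = 0) ∧ ∀ (P : ChainComplex (ModuleCat.{u} A) ℕ) (i : ℕ), Z P i (A ⧸ I) → Z P i F := by
  refine ⟨N →₀ A ⧸ I, inferInstance, inferInstance, Finsupp.lsum A fun n => I.liftQ (LinearMap.toSpanSingleton A N n)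
    fun c hc => by simpa using hN c hc n, fun n => ⟨Finsupp.single n (Ideal.Quotient.mk I 1), ?_⟩,
    fun c hc x => ?_, fun P i h => Z.finsupp h⟩
  · simp only [Finsupp.lsum_single]
    exact one_smul A n
  · ext n
    obtain ⟨d, hd⟩ := Ideal.Quotient.mk_surjective (x n)
    rw [Finsupp.smul_apply, ← hd, Finsupp.zero_apply, Algebra.smul_def]
    exact Ideal.Quotient.eq_zero_iff_mem.2 (I.mul_mem_right _ hc)

theorem z_killed (r : ℕ) (hA : ∀ i ≤ r, Z Q.complex i (A ⧸ I)) :
    ∀ i ≤ r, ∀ (N : Type u) [AddCommGroup N] [Module A N], (∀ c ∈ I, ∀ x : N, c • x = 0) → Z Q.complex i N := by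
  intro i
  induction i with
  | zero =>
    intro hi N _ _ hN z hz
    obtain ⟨F, _, _, π, hπ, hF, hZF⟩ := exists_cover (I := I) N hN
    have hex : Function.Exact (LinearMap.ker π).subtype π := LinearMap.exact_iff.2 (Submodule.range_subtype _).symm
    obtain ⟨x, rfl⟩ := LinearMap.lTensor_surjective _ hπ z
    obtain ⟨y, hy⟩ := (lTensor_exact (Q.complex.X 0) hex hπ
      (LinearMap.rTensor _ (Q.complex.d 1 0).hom x)).1 (by rw [← comm, hz])
    let ε₀ : Q.complex.X 0 →ₗ[A] M := (Q.π.f 0).hom
    have hεs : Function.Surjective ε₀ := (ModuleCat.epi_iff_surjective (Q.π.f 0)).1 inferInstance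
    have hεe : Function.Exact (Q.complex.d 1 0).hom ε₀ :=
      LinearMap.exact_iff.2 ((ShortComplex.moduleCat_exact_iff_range_eq_ker _).1 (Balance.resolution_exact_zero Q)).symm
    have h0 : LinearMap.rTensor _ ε₀ y = 0 := by
      refine LocalFlat.Basic.lTensor_injective_of_smul_eq_zero (R := A) (M := M) (I := I) (LinearMap.ker π).subtype
        Subtype.val_injective hF ?_
      rw [map_zero]
      refine ((LinearMap.congr_fun ((LinearMap.lTensor_comp_rTensor _ _ _).trans
        (LinearMap.rTensor_comp_lTensor _ _ _).symm) y)).trans ?_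
      rw [LinearMap.comp_apply, hy]
      exact (rTensor_exact (M := Q.complex.X 1) (N := Q.complex.X 0) _ hεe hεs).apply_apply_eq_zero x
    obtain ⟨v, hv⟩ := (rTensor_exact (M := Q.complex.X 1) (N := Q.complex.X 0) _ hεe hεs y).1 h0
    obtain ⟨w, hw⟩ := hZF _ 0 (hA 0 hi) (x - LinearMap.lTensor _ (LinearMap.ker π).subtype v)
      (by rw [map_sub, comm, hv, hy, sub_self])
    refine ⟨LinearMap.lTensor _ π w, ?_⟩
    rw [comm, hw, map_sub, (lTensor_exact (Q.complex.X 1) hex hπ).apply_apply_eq_zero, sub_zero]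
  | succ i ih =>
    intro hi N _ _ hN
    obtain ⟨F, _, _, π, hπ, hF, hZF⟩ := exists_cover (I := I) N hN
    exact Z.right (fun j => Balance.flat_of_projective _) (LinearMap.ker π).subtype π Subtype.val_injective
      (LinearMap.exact_iff.2 (Submodule.range_subtype _).symm) hπ (hZF _ _ (hA (i + 1) hi))
      (ih (by omega) (LinearMap.ker π) fun c hc x => Subtype.ext (hF c hc x.1))

theorem z_pow (r : ℕ) (hA : ∀ i ≤ r, Z Q.complex i (A ⧸ I)) {i : ℕ} (hi : i ≤ r) :
    ∀ (k : ℕ) (N : Type u) [AddCommGroup N] [Module A N], (∀ c ∈ I ^ k, ∀ x : N, c • x = 0) → Z Q.complex i N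
  | 0, N, _, _, hN => fun z _ => by
    have : Subsingleton N := subsingleton_of_forall_eq 0 fun x => by simpa using hN 1 (by simp) x
    exact ⟨0, Subsingleton.elim _ _⟩
  | k + 1, N, _, _, hN => by
    let S := I • (⊤ : Submodule A N)
    refine Z.mid (fun j => Balance.flat_of_projective _) S.subtype S.mkQ Subtype.val_injective
      (LinearMap.exact_subtype_mkQ S) S.mkQ_surjective (z_pow r hA hi k S fun c hc x => Subtype.ext ?_)
      (z_killed M Q r hA i hi _ fun c hc x => ?_)
    · obtain ⟨x, hx⟩ := x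
      change c • x = 0
      induction hx using Submodule.smul_induction_on' with
      | smul d hd y _ =>
        rw [smul_smul]
        exact hN _ (by rw [pow_succ]; exact Ideal.mul_mem_mul hc hd) y
      | add u hu v hv h1 h2 => rw [smul_add, h1, h2, add_zero]
    · obtain ⟨x, rfl⟩ := S.mkQ_surjective x
      rw [← map_smul]
      exact (Submodule.Quotient.mk_eq_zero S).2 (Submodule.smul_mem_smul hc Submodule.mem_top)

omit [Module.Flat (A ⧸ I) ((A ⧸ I) ⊗[A] (M : Type u))] in
/-- Removing one generator loses one degree. -/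
theorem z_step (hflat : Module.Flat A ((M : Type u) ⊗[A] Localization.Away a)) {i : ℕ}
    (N : Type u) [AddCommGroup N] [Module A N]
    (h : ∀ (T : Type u) [AddCommGroup T] [Module A T], (∀ x : T, ∃ k : ℕ, a ^ k • x = 0) →
      (∀ b : A, (∀ x : N, ∃ k : ℕ, b ^ k • x = 0) → ∀ x : T, ∃ k : ℕ, b ^ k • x = 0) →
      Z Q.complex i T ∧ Z Q.complex (i + 1) T) : Z Q.complex i N := by
  let f : N →ₗ[A] Localization.Away a ⊗[A] N := TensorProduct.mk A _ N 1
  have hloc : IsLocalizedModule (Submonoid.powers a) f :=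
    (isLocalizedModule_iff_isBaseChange (Submonoid.powers a) (Localization.Away a) f).2
      (TensorProduct.isBaseChange A N (Localization.Away a))
  have hker := h (LinearMap.ker f) (fun x => by
    obtain ⟨⟨_, k, rfl⟩, hk⟩ := (IsLocalizedModule.eq_zero_iff (Submonoid.powers a) f).1 x.2
    exact ⟨k, Subtype.ext hk⟩)
    (fun b hb x => (hb x.1).imp fun k hk => Subtype.ext hk)
  have hcok := h ((Localization.Away a ⊗[A] N) ⧸ LinearMap.range f) (fun x => by
    obtain ⟨x, rfl⟩ := Submodule.mkQ_surjective _ x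
    obtain ⟨⟨n, ⟨_, k, rfl⟩⟩, hn⟩ := IsLocalizedModule.surj (Submonoid.powers a) f x
    refine ⟨k, ?_⟩
    rw [← map_smul]
    exact (Submodule.Quotient.mk_eq_zero _).2 ⟨n, hn.symm⟩)
    (fun b hb x => by
      obtain ⟨x, rfl⟩ := Submodule.mkQ_surjective _ x
      obtain ⟨⟨n, s⟩, hn⟩ := IsLocalizedModule.surj (Submonoid.powers a) f x
      obtain ⟨k, hk⟩ := hb n
      refine ⟨k, ?_⟩
      have : b ^ k • x = 0 := (IsLocalizedModule.smul_injective f s) (by
        change s • (b ^ k • x) = s • (0 : Localization.Away a ⊗[A] N)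
        rw [smul_comm, hn, ← map_smul, hk, map_zero, smul_zero])
      rw [← map_smul, this, map_zero])
  have hflat' : ∀ j, Module.Flat A (Q.complex.X j) := fun j => Balance.flat_of_projective _
  have hrange : Z Q.complex i (LinearMap.range f) :=
    Z.left hflat' (LinearMap.range f).subtype (LinearMap.range f).mkQ Subtype.val_injective
      (LinearMap.exact_subtype_mkQ _) (Submodule.mkQ_surjective _) (z_localization M Q a i hflat N) hcok.2
  exact Z.mid hflat' (LinearMap.ker f).subtype f.rangeRestrict Subtype.val_injective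
    (LinearMap.exact_iff.2 (by rw [LinearMap.ker_rangeRestrict, Submodule.range_subtype]))
    f.surjective_rangeRestrict hker.1 hrange

theorem flat (r : ℕ) (f : Fin r → A) (hI : I = Ideal.span (Set.range f))
    (hloc : ∀ l, Module.Flat A ((M : Type u) ⊗[A] Localization.Away (f l)))
    (hA : ∀ i ≤ r, Z Q.complex i (A ⧸ I)) : Module.Flat A M := by
  have hflat' : ∀ j, Module.Flat A (Q.complex.X j) := fun j => Balance.flat_of_projective _
  have main : ∀ d, d ≤ r → ∀ (i : ℕ), i + d ≤ r → ∀ (N : Type u) [AddCommGroup N] [Module A N],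
      (∀ l : Fin r, d ≤ (l : ℕ) → ∀ x : N, ∃ k : ℕ, f l ^ k • x = 0) → Z Q.complex i N := by
    intro d
    induction d with
    | zero =>
      intro _ i hi N _ _ hN
      let S : ℕ →o Submodule A N := ⟨fun k => Submodule.torsionBySet A N (I ^ k : Ideal A), fun k l hkl =>
        Submodule.torsionBySet_le_torsionBySet_of_subset (Ideal.pow_le_pow_right hkl)⟩
      refine Z.of_union hflat' S (fun x => ?_) fun k => z_pow M Q r hA (by omega) k _ fun c hc x =>
        Subtype.ext ((Submodule.mem_torsionBySet_iff _ _).1 x.2 ⟨c, hc⟩)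
      have hrad : I ≤ Ideal.radical (LinearMap.ker (LinearMap.toSpanSingleton A N x)) := by
        rw [hI, Ideal.span_le]
        rintro _ ⟨l, rfl⟩
        obtain ⟨k, hk⟩ := hN l (Nat.zero_le _) x
        exact ⟨k, by simpa using hk⟩
      obtain ⟨k, hk⟩ := Ideal.exists_pow_le_of_le_radical_of_fg hrad
        (by rw [hI]; exact ⟨(Set.finite_range f).toFinset, by simp⟩)
      exact ⟨k, (Submodule.mem_torsionBySet_iff _ _).2 fun c => by simpa using hk c.2⟩
    | succ d ih =>
      intro hd i hi N _ _ hN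
      refine z_step M Q (f ⟨d, by omega⟩) (hloc _) N fun T _ _ hT hT' => ?_
      have hall : ∀ l : Fin r, d ≤ (l : ℕ) → ∀ x : T, ∃ k : ℕ, f l ^ k • x = 0 := by
        intro l hl
        rcases Nat.eq_or_lt_of_le hl with h | h
        · rw [show l = ⟨d, by omega⟩ from Fin.ext h.symm]
          exact hT
        · exact hT' (f l) (hN l h)
      exact ⟨ih (by omega) i (by omega) T hall, ih (by omega) (i + 1) (by omega) T hall⟩
  exact flat_of_Z M Q fun J => main r le_rfl 0 (by omega) (A ⧸ J) fun l hl => absurd l.2 (by omega)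

end Groth.Agent.Lib.Tor.FlatOfTorsion
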