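import Groth.Agent.Lib.Tor.Balance
import Mathlib.Algebra.Category.ModuleCat.Abelian

/-!
# Tor statements for modules as types
-/

universe u

namespace Groth.Agent.Lib.Tor.Module

open CategoryTheory CategoryTheory.Limits

variable (A : Type u) [CommRing A] (M N : Type u) [AddCommGroup M] [Module A M]
  [AddCommGroup N] [Module A N]

lemma subsingleton_tor_of_flat_left [Module.Flat A M] (p : ℕ) (hp : 0 < p) :
    Subsingleton (((CategoryTheory.Tor (ModuleCat.{u} A) p).obj (ModuleCat.of A M)).obj
      (ModuleCat.of A N) : ModuleCat.{u} A) := by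
  obtain ⟨q, rfl⟩ := Nat.exists_eq_succ_of_ne_zero hp.ne'
  exact ModuleCat.subsingleton_of_isZero (Balance.isZero_tor_succ_of_flat_left _ _ q)

lemma subsingleton_tor_of_flat_right [Module.Flat A N] (p : ℕ) (hp : 0 < p) :
    Subsingleton (((CategoryTheory.Tor (ModuleCat.{u} A) p).obj (ModuleCat.of A M)).obj
      (ModuleCat.of A N) : ModuleCat.{u} A) := by
  obtain ⟨q, rfl⟩ := Nat.exists_eq_succ_of_ne_zero hp.ne'
  exact ModuleCat.subsingleton_of_isZero (Balance.isZero_tor_succ_of_flat_right _ _ q)

end Groth.Agent.Lib.Tor.Module
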