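import Groth.Agent.Lib.Tor.Splice
import Mathlib.Algebra.Category.ModuleCat.Ext.HasExt
import Mathlib.Algebra.Homology.DerivedCategory.Ext.EnoughProjectives
import Mathlib.Algebra.Homology.DerivedCategory.Ext.ExactSequences
import Mathlib.RingTheory.Noetherian.Basic

/-!
# Vanishing of maps on Ext and Tor
-/

universe u

open CategoryTheory CategoryTheory.Limits TensorProduct Abelian

namespace Groth.Agent.Lib.Tor.ExtTorShift

variable {R : Type u} [CommRing R] {M M' : Type u} [AddCommGroup M] [Module R M] [AddCommGroup M']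
  [Module R M']

/-- `α` kills all classes in `Ext^{e+1}(M', -)`. -/
def ExtZero (e : ℕ) (α : M →ₗ[R] M') : Prop :=
  ∀ (N : ModuleCat.{u} R) (x : Ext (ModuleCat.of R M') N (e + 1)),
    (Ext.mk₀ (ModuleCat.ofHom α)).comp x (zero_add (e + 1)) = 0

/-- `α` maps cycles to boundaries in `- ⊗ Q` in degree `e + 1`. -/
def TorZero (e : ℕ) (α : M →ₗ[R] M') : Prop :=
  ∀ (N : ModuleCat.{u} R) (Q : ProjectiveResolution N) (z : M ⊗[R] Q.complex.X (e + 1)),
    LinearMap.lTensor M (Q.complex.d (e + 1) e).hom z = 0 →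
      ∃ w : M' ⊗[R] Q.complex.X (e + 2),
        LinearMap.lTensor M' (Q.complex.d (e + 2) (e + 1)).hom w = LinearMap.rTensor _ α z

theorem torZero_of_map_eq_zero (e : ℕ) (α : M →ₗ[R] M')
    (h : ∀ (N : Type u) [AddCommGroup N] [Module R N],
      ((CategoryTheory.Tor (ModuleCat.{u} R) (e + 1)).map (ModuleCat.ofHom α)).app (ModuleCat.of R N) = 0) :
    TorZero e α :=
  fun N Q z hz => MapZero.exists_boundary_of_tor α e (h N) Q z hz

theorem map_eq_zero_of_torZero (e : ℕ) (α : M →ₗ[R] M') (h : TorZero e α) (N : ModuleCat.{u} R) :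
    ((CategoryTheory.Tor (ModuleCat.{u} R) (e + 1)).map (ModuleCat.ofHom α)).app N = 0 := by
  let Q := projectiveResolution N
  rw [Tor_map, Q.leftDerived_app_eq]
  have h0 : HomologicalComplex.homologyMap ((NatTrans.mapHomologicalComplex
      ((MonoidalCategory.tensoringLeft (ModuleCat.{u} R)).map (ModuleCat.ofHom α)) (ComplexShape.down ℕ)).app
      Q.complex) (e + 1) = 0 :=
    Splice.homologyMap_eq_zero _ e fun z hz => h N Q z hz
  simp only [HomologicalComplex.homologyFunctor_map, h0]
  refine (congrArg (fun t => _ ≫ t) zero_comp).trans comp_zero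

variable (F : Type u) [AddCommGroup F] [Module R F]

section Flat

variable [Module.Flat R F] {N : ModuleCat.{u} R}

theorem exact_flat (Q : ProjectiveResolution N) (n : ℕ) (z : F ⊗[R] Q.complex.X (n + 1))
    (hz : LinearMap.lTensor F (Q.complex.d (n + 1) n).hom z = 0) :
    ∃ w, LinearMap.lTensor F (Q.complex.d (n + 2) (n + 1)).hom w = z := by
  have hex : Function.Exact (Q.complex.d (n + 2) (n + 1)).hom (Q.complex.d (n + 1) n).hom :=
    LinearMap.exact_iff.2 ((ShortComplex.moduleCat_exact_iff_range_eq_ker _).1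
      ((HomologicalComplex.exactAt_iff' _ (n + 2) (n + 1) n (by simp) (by simp)).1
        (Q.complex_exactAt_succ n))).symm
  exact (Module.Flat.lTensor_exact F hex _).1 hz

end Flat

theorem torZero_zero_iff [Module.FinitePresentation R M] (α : M →ₗ[R] M') :
    TorZero 0 α ↔ ∃ g : M →ₗ[R] (M' →₀ R), α = Finsupp.linearCombination R id ∘ₗ g := by
  refine ⟨fun h => MapZero.exists_factorization α fun N _ _ => map_eq_zero_of_torZero 0 α h _, ?_⟩
  rintro ⟨g, rfl⟩ N Q z hz
  obtain ⟨w, hw⟩ := exact_flat (M' →₀ R) Q 0 (LinearMap.rTensor _ g z) (by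
    rw [← LinearMap.comp_apply, LinearMap.lTensor_comp_rTensor, ← LinearMap.rTensor_comp_lTensor,
      LinearMap.comp_apply, hz, map_zero])
  refine ⟨LinearMap.rTensor _ (Finsupp.linearCombination R id) w, ?_⟩
  rw [← LinearMap.comp_apply, LinearMap.lTensor_comp_rTensor, ← LinearMap.rTensor_comp_lTensor,
    LinearMap.comp_apply, hw, LinearMap.rTensor_comp, LinearMap.comp_apply]

/-- The short exact sequence `ker π → F → M`. -/
noncomputable def kerSC {F : Type u} [AddCommGroup F] [Module R F] (π : F →ₗ[R] M) :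
    ShortComplex (ModuleCat.{u} R) :=
  ShortComplex.mk (ModuleCat.ofHom (LinearMap.ker π).subtype) (ModuleCat.ofHom π) (by ext x; exact x.2)

theorem kerSC_shortExact {F : Type u} [AddCommGroup F] [Module R F] (π : F →ₗ[R] M)
    (hπ : Function.Surjective π) : (kerSC π).ShortExact :=
  { exact := (ShortComplex.moduleCat_exact_iff_ker_sub_range _).2 fun x hx => ⟨⟨x, hx⟩, rfl⟩
    mono_f := (ModuleCat.mono_iff_injective _).2 Subtype.val_injective
    epi_g := (ModuleCat.epi_iff_surjective _).2 hπ }

theorem extZero_zero_iff (α : M →ₗ[R] M') :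
    ExtZero 0 α ↔ ∃ g : M →ₗ[R] (M' →₀ R), α = Finsupp.linearCombination R id ∘ₗ g := by
  let β : (M' →₀ R) →ₗ[R] M' := Finsupp.linearCombination R id
  have hS := kerSC_shortExact β (Finsupp.linearCombination_id_surjective R M')
  constructor
  · intro h
    obtain ⟨x₂, hx₂⟩ := Ext.covariant_sequence_exact₃ (ModuleCat.of R M) hS
      (Ext.mk₀ (ModuleCat.ofHom α)) (zero_add 1) (h _ hS.extClass)
    obtain ⟨g, rfl⟩ := Ext.homEquiv₀.symm.surjective x₂
    rw [Ext.homEquiv₀_symm_apply, Ext.mk₀_comp_mk₀] at hx₂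
    have := congrArg ModuleCat.Hom.hom ((Ext.mk₀_bijective _ _).1 hx₂)
    exact ⟨g.hom, this.symm⟩
  · rintro ⟨g, rfl⟩ N x
    rw [ModuleCat.ofHom_comp, ← Ext.mk₀_comp_mk₀_assoc]
    rw [Ext.eq_zero_of_projective ((Ext.mk₀ (ModuleCat.ofHom (Finsupp.linearCombination R id))).comp x
      (zero_add 1)), Ext.comp_zero]

section Shift

variable {F F' : Type u} [AddCommGroup F] [Module R F] [AddCommGroup F'] [Module R F']
  (π : F →ₗ[R] M) (π' : F' →ₗ[R] M') (ψ : F →ₗ[R] F') (α : M →ₗ[R] M') (hψ : π' ∘ₗ ψ = α ∘ₗ π)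

/-- The map induced on kernels. -/
def kerMap : LinearMap.ker π →ₗ[R] LinearMap.ker π' :=
  (ψ ∘ₗ (LinearMap.ker π).subtype).codRestrict _ fun x => by
    rw [LinearMap.mem_ker, ← LinearMap.comp_apply, ← LinearMap.comp_assoc, hψ, LinearMap.comp_apply,
      LinearMap.comp_apply, Submodule.subtype_apply, LinearMap.mem_ker.1 x.2, map_zero]

variable [Module.Projective R F] [Module.Projective R F'] (hπ : Function.Surjective π)
  (hπ' : Function.Surjective π') (e : ℕ)

include hπ hπ' in
theorem extZero_succ_iff : ExtZero (e + 1) α ↔ ExtZero e (kerMap π π' ψ α hψ) := by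
  have hS := kerSC_shortExact π hπ
  have hS' := kerSC_shortExact π' hπ'
  let f : kerSC π ⟶ kerSC π' :=
    { τ₁ := ModuleCat.ofHom (kerMap π π' ψ α hψ), τ₂ := ModuleCat.ofHom ψ, τ₃ := ModuleCat.ofHom α
      comm₁₂ := rfl
      comm₂₃ := by ext x; exact LinearMap.congr_fun hψ x }
  have hnat := hS.extClass_naturality hS' f
  have key : ∀ (N : ModuleCat.{u} R) (y : Ext (kerSC π').X₁ N (e + 1)),
      (Ext.mk₀ f.τ₃).comp (hS'.extClass.comp y (by omega : 1 + (e + 1) = e + 1 + 1))
        (zero_add (e + 1 + 1)) =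
      hS.extClass.comp ((Ext.mk₀ f.τ₁).comp y (zero_add (e + 1)))
        (by omega) := fun N y => by
    rw [← Ext.comp_assoc (a₁₂ := 1) _ _ _ (by omega) (by omega) (by omega),
      ← Ext.comp_assoc (a₁₂ := 1) _ _ _ (by omega) (by omega) (by omega)]
    exact congrArg (fun t => Ext.comp t y _) hnat.symm
  have hP : Projective (kerSC π).X₂ :=
    (IsProjective.iff_projective (R := R) (kerSC π).X₂).1 (inferInstanceAs (Module.Projective R F))
  have hP' : Projective (kerSC π').X₂ :=
    (IsProjective.iff_projective (R := R) (kerSC π').X₂).1 (inferInstanceAs (Module.Projective R F'))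
  constructor
  · intro h N y
    obtain ⟨x₂, hx₂⟩ := Ext.contravariant_sequence_exact₁ hS N
      ((Ext.mk₀ (ModuleCat.ofHom (kerMap π π' ψ α hψ))).comp y (zero_add (e + 1)))
      (by omega : 1 + (e + 1) = e + 1 + 1) ((key N y).symm.trans (h N _))
    rw [← hx₂, Ext.eq_zero_of_projective x₂, Ext.comp_zero]
    rfl
  · intro h N x
    obtain ⟨y, rfl⟩ := Ext.contravariant_sequence_exact₃ hS' N x (Ext.eq_zero_of_projective _)
      (by omega : 1 + (e + 1) = e + 1 + 1)
    exact (key N y).trans ((congrArg (fun t => hS.extClass.comp t _) (h N y)).trans (Ext.comp_zero _ _ _ _ _))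

include hπ hπ' in
theorem torZero_succ_iff : TorZero (e + 1) α ↔ TorZero e (kerMap π π' ψ α hψ) := by
  have hsub : (LinearMap.ker π').subtype ∘ₗ kerMap π π' ψ α hψ = ψ ∘ₗ (LinearMap.ker π).subtype := by
    ext x; rfl
  have hE : Function.Exact (LinearMap.ker π).subtype π :=
    LinearMap.exact_iff.2 (Submodule.range_subtype _).symm
  have hE' : Function.Exact (LinearMap.ker π').subtype π' :=
    LinearMap.exact_iff.2 (Submodule.range_subtype _).symm
  refine forall₂_congr fun N Q => ⟨fun h y hy => ?_, fun h z hz => ?_⟩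
  · have hflat := Balance.flat_of_projective (Q.complex.X (e + 1))
    obtain ⟨p, hp⟩ := exact_flat F Q e (LinearMap.rTensor _ (LinearMap.ker π).subtype y) (by
      rw [← LinearMap.comp_apply, LinearMap.lTensor_comp_rTensor, ← LinearMap.rTensor_comp_lTensor,
        LinearMap.comp_apply, hy, map_zero])
    obtain ⟨w, hw⟩ := h (LinearMap.rTensor _ π p) (by
      rw [← LinearMap.comp_apply, LinearMap.lTensor_comp_rTensor, ← LinearMap.rTensor_comp_lTensor,
        LinearMap.comp_apply, hp]
      exact (rTensor_exact (Q.complex.X (e + 1)) hE hπ).apply_apply_eq_zero y)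
    obtain ⟨w', rfl⟩ := LinearMap.rTensor_surjective _ hπ' w
    obtain ⟨v, hv⟩ := (rTensor_exact (Q.complex.X (e + 2)) hE' hπ'
      (LinearMap.rTensor _ ψ p - LinearMap.lTensor F' (Q.complex.d (e + 3) (e + 2)).hom w')).1 (by
        rw [map_sub, ← LinearMap.comp_apply, ← LinearMap.rTensor_comp, hψ, LinearMap.rTensor_comp,
          LinearMap.comp_apply, ← hw, sub_eq_zero]
        exact LinearMap.congr_fun ((LinearMap.lTensor_comp_rTensor _ _ _).trans
          (LinearMap.rTensor_comp_lTensor _ _ _).symm) w')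
    refine ⟨v, Module.Flat.rTensor_preserves_injective_linearMap (LinearMap.ker π').subtype
      Subtype.val_injective ?_⟩
    have hdd : LinearMap.lTensor F' (Q.complex.d (e + 2) (e + 1)).hom
        (LinearMap.lTensor F' (Q.complex.d (e + 3) (e + 2)).hom w') = 0 := by
      rw [← LinearMap.comp_apply, ← LinearMap.lTensor_comp, ← ModuleCat.hom_comp,
        HomologicalComplex.d_comp_d, ModuleCat.hom_zero, LinearMap.lTensor_zero, LinearMap.zero_apply]
    rw [← LinearMap.comp_apply, LinearMap.rTensor_comp_lTensor, ← LinearMap.lTensor_comp_rTensor,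
      LinearMap.comp_apply, hv, map_sub, sub_eq_self.2 hdd,
      ← LinearMap.comp_apply _ (LinearMap.rTensor _ (kerMap π π' ψ α hψ)), ← LinearMap.rTensor_comp,
      hsub, LinearMap.rTensor_comp, LinearMap.comp_apply, ← hp]
    exact LinearMap.congr_fun ((LinearMap.lTensor_comp_rTensor _ _ _).trans
      (LinearMap.rTensor_comp_lTensor _ _ _).symm) p
  · obtain ⟨p, rfl⟩ := LinearMap.rTensor_surjective _ hπ z
    obtain ⟨y, hy⟩ := (rTensor_exact (Q.complex.X (e + 1)) hE hπ
      (LinearMap.lTensor F (Q.complex.d (e + 2) (e + 1)).hom p)).1 (by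
        rw [← hz]
        exact LinearMap.congr_fun ((LinearMap.rTensor_comp_lTensor _ _ _).trans
          (LinearMap.lTensor_comp_rTensor _ _ _).symm) p)
    have hflat := Balance.flat_of_projective (Q.complex.X e)
    obtain ⟨w, hw⟩ := h y (Module.Flat.rTensor_preserves_injective_linearMap (LinearMap.ker π).subtype
      Subtype.val_injective (by
        rw [map_zero, ← LinearMap.comp_apply, LinearMap.rTensor_comp_lTensor,
          ← LinearMap.lTensor_comp_rTensor, LinearMap.comp_apply, hy, ← LinearMap.comp_apply,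
          ← LinearMap.lTensor_comp, ← ModuleCat.hom_comp, HomologicalComplex.d_comp_d,
          ModuleCat.hom_zero, LinearMap.lTensor_zero, LinearMap.zero_apply]))
    obtain ⟨q, hq⟩ := exact_flat F' Q (e + 1)
      (LinearMap.rTensor _ ψ p - LinearMap.rTensor _ (LinearMap.ker π').subtype w) (by
        rw [map_sub, ← LinearMap.comp_apply, LinearMap.lTensor_comp_rTensor,
          ← LinearMap.rTensor_comp_lTensor, LinearMap.comp_apply, ← hy, ← LinearMap.comp_apply,
          ← LinearMap.rTensor_comp, ← hsub, LinearMap.rTensor_comp, LinearMap.comp_apply, ← hw,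
          sub_eq_zero]
        exact LinearMap.congr_fun ((LinearMap.rTensor_comp_lTensor _ _ _).trans
          (LinearMap.lTensor_comp_rTensor _ _ _).symm) w)
    refine ⟨LinearMap.rTensor _ π' q, ?_⟩
    rw [← LinearMap.comp_apply, LinearMap.lTensor_comp_rTensor, ← LinearMap.rTensor_comp_lTensor,
      LinearMap.comp_apply, hq, map_sub, (rTensor_exact (Q.complex.X (e + 2)) hE' hπ').apply_apply_eq_zero,
      sub_zero, ← LinearMap.comp_apply, ← LinearMap.rTensor_comp, hψ, LinearMap.rTensor_comp,
      LinearMap.comp_apply]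

end Shift

theorem extZero_iff_torZero [IsNoetherianRing R] (e : ℕ) :
    ∀ {M M' : Type u} [AddCommGroup M] [Module R M] [Module.Finite R M] [AddCommGroup M'] [Module R M']
      (α : M →ₗ[R] M'), ExtZero e α ↔ TorZero e α := by
  induction e with
  | zero =>
    intro M M' _ _ _ _ _ α
    have := Module.finitePresentation_of_finite R M
    exact (extZero_zero_iff α).trans (torZero_zero_iff α).symm
  | succ e ih =>
    intro M M' _ _ _ _ _ α
    obtain ⟨k, π, hπ⟩ := Module.Finite.exists_fin' R M
    let π' : (M' →₀ R) →ₗ[R] M' := Finsupp.linearCombination R id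
    have hπ' : Function.Surjective π' := Finsupp.linearCombination_id_surjective R M'
    obtain ⟨ψ, hψ⟩ := Module.projective_lifting_property π' (α ∘ₗ π) hπ'
    rw [extZero_succ_iff π π' ψ α hψ hπ hπ', torZero_succ_iff π π' ψ α hψ hπ hπ']
    exact ih _

end Groth.Agent.Lib.Tor.ExtTorShift
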