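import Groth.Agent.Lib.Tor.Splice

/-!
# `Tor_1` of a cokernel as a kernel
-/

universe u

open CategoryTheory CategoryTheory.Limits TensorProduct

namespace Groth.Agent.Lib.Tor.TorOneKer

variable {R : Type u} [CommRing R] {K F M : ModuleCat.{u} R}

/-- The first homology of the spliced complex tensored with `X`. -/
theorem homology_iso_ker (ι : K ⟶ F) (P : ProjectiveResolution K) (X : ModuleCat.{u} R) :
    Nonempty (((Balance.tensorCxFun (Splice.spliced ι P)).obj X).homology 1 ≅
      ModuleCat.of R (LinearMap.ker (LinearMap.rTensor X ι.hom))) := by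
  let C := (Balance.tensorCxFun (Splice.spliced ι P)).obj X
  let S := C.sc' 2 1 0
  let π₀ : P.complex.X 0 →ₗ[R] K := (P.π.f 0).hom
  have hπ : Function.Surjective π₀ := (ModuleCat.epi_iff_surjective (P.π.f 0)).1 inferInstance
  have hd : Function.Exact (P.complex.d 1 0).hom π₀ :=
    LinearMap.exact_iff.2 ((ShortComplex.moduleCat_exact_iff_range_eq_ker _).1
      (Balance.resolution_exact_zero P)).symm
  have hE := rTensor_exact (M := P.complex.X 1) (N := P.complex.X 0) X hd hπ
  have hcomp : ∀ z, S.g z = LinearMap.rTensor X ι.hom (LinearMap.rTensor X π₀ z) := fun z =>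
    LinearMap.congr_fun (LinearMap.rTensor_comp X ι.hom π₀) z
  let q : LinearMap.ker S.g.hom →ₗ[R] LinearMap.ker (LinearMap.rTensor X ι.hom) :=
    ((LinearMap.rTensor X π₀) ∘ₗ (LinearMap.ker S.g.hom).subtype).codRestrict _ fun z =>
      LinearMap.mem_ker.2 ((hcomp z.1).symm.trans z.2)
  have hq : Function.Surjective q := fun y => by
    obtain ⟨z, hz⟩ := LinearMap.rTensor_surjective X hπ y.1
    refine ⟨⟨z, LinearMap.mem_ker.2 ((hcomp z).trans ?_)⟩, Subtype.ext hz⟩
    rw [hz]; exact y.2
  have hker : LinearMap.range S.moduleCatToCycles = LinearMap.ker q := by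
    ext z
    constructor
    · rintro ⟨w, rfl⟩
      exact Subtype.ext (hE.apply_apply_eq_zero w)
    · intro hz
      obtain ⟨w, hw⟩ := (hE z.1).1 (congrArg Subtype.val hz)
      exact ⟨w, Subtype.ext hw⟩
  exact ⟨C.homologyIsoSc' 2 1 0 (by simp) (by simp) ≪≫ S.moduleCatHomologyIso ≪≫
    ((Submodule.quotEquivOfEq _ _ hker).trans (q.quotKerEquivOfSurjective hq)).toModuleIso⟩

/-- `Tor_1(coker ι, X) ≅ ker (K ⊗ X → F ⊗ X)` for injective `ι` with flat target. -/
theorem torOne_iso_ker (ι : K ⟶ F) [Module.Flat R F] (β : F ⟶ M) (hι : Function.Injective ι)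
    (hβ : Function.Surjective β) (hex : Function.Exact ι β) (X : ModuleCat.{u} R) :
    Nonempty (((CategoryTheory.Tor (ModuleCat.{u} R) 1).obj M).obj X ≅
      ModuleCat.of R (LinearMap.ker (LinearMap.rTensor X ι.hom))) :=
  ⟨((Splice.torIso ι (projectiveResolution K) β hι hβ hex 1).app X).symm ≪≫
    (homology_iso_ker ι (projectiveResolution K) X).some⟩

end Groth.Agent.Lib.Tor.TorOneKer
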