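import Mathlib.CategoryTheory.Monoidal.Tor
import Mathlib.Algebra.Category.ModuleCat.Monoidal.Basic
import Mathlib.Algebra.Category.ModuleCat.Projective
import Mathlib.Algebra.Category.ModuleCat.Abelian
import Mathlib.LinearAlgebra.TensorProduct.RightExactness
import Mathlib.RingTheory.Flat.Basic
import Mathlib.Algebra.Module.FinitePresentation
import Mathlib.Algebra.Homology.ShortComplex.ModuleCat
import Mathlib.Algebra.Category.ModuleCat.EpiMono
import Mathlib.Algebra.Module.Projective

/-!
# Maps inducing zero on `Tor`, elementwise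
-/

universe u

open CategoryTheory CategoryTheory.Limits TensorProduct MonoidalCategory

namespace Groth.Agent.Lib.Tor.MapZero

variable {R : Type u} [CommRing R]

/-- If a chain map is zero on homology, it sends cycles to boundaries. -/
theorem exists_boundary {K L : ChainComplex (ModuleCat.{u} R) ℕ} (φ : K ⟶ L) (i : ℕ)
    (h : HomologicalComplex.homologyMap φ (i + 1) = 0) (z : K.X (i + 1)) (hz : K.d (i + 1) i z = 0) :
    ∃ w : L.X (i + 2), L.d (i + 2) (i + 1) w = φ.f (i + 1) z := by
  let a : ModuleCat.of R R ⟶ K.X (i + 1) := ModuleCat.ofHom (LinearMap.toSpanSingleton R _ z)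
  have ha : a ≫ K.d (i + 1) i = 0 := by
    ext
    simp [a, hz]
  let c := K.liftCycles a i (by simp) ha
  have h0 : (c ≫ HomologicalComplex.cyclesMap φ (i + 1)) ≫ L.homologyπ (i + 1) = 0 := by
    rw [Category.assoc, ← HomologicalComplex.homologyπ_naturality, h, comp_zero, comp_zero]
  have hex := ShortComplex.exact_of_g_is_cokernel
    (ShortComplex.mk (L.toCycles (i + 2) (i + 1)) (L.homologyπ (i + 1)) (by simp))
    (L.homologyIsCokernel (i + 2) (i + 1) (by simp))
  obtain ⟨w, hw⟩ := (ShortComplex.moduleCat_exact_iff _).1 hex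
    ((c ≫ HomologicalComplex.cyclesMap φ (i + 1)) (1 : R))
    (by simpa using ConcreteCategory.congr_hom h0 (1 : R))
  refine ⟨w, ?_⟩
  have h1 := congrArg (L.iCycles (i + 1)) hw
  have h2 : (c ≫ HomologicalComplex.cyclesMap φ (i + 1)) ≫ L.iCycles (i + 1) = a ≫ φ.f (i + 1) := by
    simp [c]
  change (L.toCycles (i + 2) (i + 1) ≫ L.iCycles (i + 1)) w =
    ((c ≫ HomologicalComplex.cyclesMap φ (i + 1)) ≫ L.iCycles (i + 1)) (1 : R) at h1
  rw [h2, HomologicalComplex.toCycles_i] at h1
  simpa [a] using h1

/-- If `α` is zero on `Tor_{i+1}(-, N)`, then it sends cycles of a resolution of `N` to boundaries. -/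
theorem exists_boundary_of_tor {M M' : Type u} [AddCommGroup M] [Module R M] [AddCommGroup M']
    [Module R M'] (α : M →ₗ[R] M') {N : ModuleCat.{u} R} (i : ℕ)
    (h : ((CategoryTheory.Tor (ModuleCat.{u} R) (i + 1)).map (ModuleCat.ofHom α)).app N = 0)
    (Q : ProjectiveResolution N) (z : M ⊗[R] Q.complex.X (i + 1))
    (hz : LinearMap.lTensor M (Q.complex.d (i + 1) i).hom z = 0) :
    ∃ w : M' ⊗[R] Q.complex.X (i + 2),
      LinearMap.lTensor M' (Q.complex.d (i + 2) (i + 1)).hom w = LinearMap.rTensor _ α z := by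
  have h' : HomologicalComplex.homologyMap ((NatTrans.mapHomologicalComplex
      ((tensoringLeft (ModuleCat.{u} R)).map (ModuleCat.ofHom α)) (ComplexShape.down ℕ)).app
      Q.complex) (i + 1) = 0 := by
    have := h
    rw [Tor_map, Q.leftDerived_app_eq] at this
    exact (cancel_mono (Q.isoLeftDerivedObj _ (i + 1)).inv).1
      (((cancel_epi (Q.isoLeftDerivedObj _ (i + 1)).hom).1 (this.trans comp_zero.symm)).trans
        zero_comp.symm)
  exact exists_boundary _ i h' z hz

/-- A map with finitely presented source which is zero on `Tor_1` factors through a free module. -/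
theorem exists_factorization {M M' : Type u} [AddCommGroup M] [Module R M]
    [Module.FinitePresentation R M] [AddCommGroup M'] [Module R M'] (α : M →ₗ[R] M')
    (h : ∀ (N : Type u) [AddCommGroup N] [Module R N],
      ((CategoryTheory.Tor (ModuleCat.{u} R) 1).map (ModuleCat.ofHom α)).app (ModuleCat.of R N) = 0) :
    ∃ g : M →ₗ[R] (M' →₀ R), α = Finsupp.linearCombination R id ∘ₗ g := by
  classical
  obtain ⟨n, K₀, e, hK₀⟩ := Module.FinitePresentation.exists_fin R M
  obtain ⟨m, r, hr⟩ := Submodule.fg_iff_exists_fin_generating_family.1 hK₀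
  let π : (Fin n → R) →ₗ[R] M := e.symm.toLinearMap ∘ₗ K₀.mkQ
  have hπ : Function.Surjective π := e.symm.surjective.comp K₀.mkQ_surjective
  have hker : LinearMap.ker π = K₀ := by simp [π, LinearMap.ker_comp]
  let β : (M' →₀ R) →ₗ[R] M' := Finsupp.linearCombination R id
  have hβ : Function.Surjective β := Finsupp.linearCombination_id_surjective R M'
  obtain ⟨p, hp⟩ := Module.projective_lifting_property β (α ∘ₗ π) hβ
  let K := LinearMap.ker β
  have hr0 : ∀ j, π (r j) = 0 := fun j => by
    rw [← LinearMap.mem_ker, hker, ← hr]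
    exact Submodule.subset_span ⟨j, rfl⟩
  have hk : ∀ j, p (r j) ∈ K := fun j => by
    rw [LinearMap.mem_ker, ← LinearMap.comp_apply, hp, LinearMap.comp_apply, hr0, map_zero]
  let T : (Fin n → R) →ₗ[R] (Fin m → R) :=
    Fintype.linearCombination R fun i => fun j => r j i
  have hT : ∀ i, T (Pi.single i 1) = fun j => r j i := fun i => by
    ext j
    simp [T]
  let Q := Classical.choice (HasProjectiveResolution.out (Z := ModuleCat.of R
    ((Fin m → R) ⧸ LinearMap.range T)))
  let ε : Q.complex.X 0 →ₗ[R] ((Fin m → R) ⧸ LinearMap.range T) := (Q.π.f 0).hom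
  have hεsurj : Function.Surjective ε := (ModuleCat.epi_iff_surjective _).1 inferInstance
  have hεex : Function.Exact (Q.complex.d 1 0).hom ε :=
    LinearMap.exact_iff.2 ((ShortComplex.moduleCat_exact_iff_range_eq_ker _).1
      (ShortComplex.exact_of_g_is_cokernel
        (ShortComplex.mk _ _ Q.complex_d_comp_π_f_zero) Q.isColimitCokernelCofork)).symm
  have hεd : ∀ x, ε ((Q.complex.d 1 0).hom x) = 0 := fun x => hεex.apply_apply_eq_zero x
  let ebar : Fin m → ((Fin m → R) ⧸ LinearMap.range T) := fun j => Submodule.Quotient.mk (Pi.single j 1)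
  choose e' he' using fun j => hεsurj (ebar j)
  have hu : ∀ i, ∃ v, (Q.complex.d 1 0).hom v = ∑ j, r j i • e' j := fun i => by
    refine (hεex _).1 ?_
    simp only [map_sum, map_smul, he', ebar]
    rw [show ∑ j, r j i • (Submodule.Quotient.mk (Pi.single j 1) : (Fin m → R) ⧸ LinearMap.range T) =
      (LinearMap.range T).mkQ (∑ j, r j i • (Pi.single j 1 : Fin m → R)) by simp,
      Submodule.mkQ_apply, Submodule.Quotient.mk_eq_zero]
    refine ⟨Pi.single i 1, (hT i).trans ?_⟩
    exact pi_eq_sum_univ' _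
  choose v hv using hu
  let z : M ⊗[R] Q.complex.X 1 := ∑ i, π (Pi.single i 1) ⊗ₜ v i
  have hz : LinearMap.lTensor M (Q.complex.d 1 0).hom z = 0 := by
    simp only [z, map_sum, LinearMap.lTensor_tmul, hv, TensorProduct.tmul_sum,
      TensorProduct.tmul_smul, ← TensorProduct.smul_tmul']
    rw [Finset.sum_comm]
    refine Finset.sum_eq_zero fun j _ => ?_
    simp only [TensorProduct.smul_tmul', ← TensorProduct.sum_tmul]
    rw [show ∑ i, r j i • π (Pi.single i 1) = π (r j) by
      conv_rhs => rw [pi_eq_sum_univ' (r j)]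
      simp [map_sum], hr0, TensorProduct.zero_tmul]
  obtain ⟨w, hw⟩ := exists_boundary_of_tor α 0 (h _) Q z hz
  obtain ⟨w', rfl⟩ := LinearMap.rTensor_surjective _ hβ w
  let f : (M' →₀ R) ⊗[R] Q.complex.X 1 := ∑ i, p (Pi.single i 1) ⊗ₜ v i
  have hf : LinearMap.rTensor _ β (f - LinearMap.lTensor _ (Q.complex.d 2 1).hom w') = 0 := by
    rw [map_sub, ← LinearMap.comp_apply, LinearMap.rTensor_comp_lTensor,
      ← LinearMap.lTensor_comp_rTensor, LinearMap.comp_apply, hw, sub_eq_zero]
    simp only [f, z, map_sum, LinearMap.rTensor_tmul]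
    refine Finset.sum_congr rfl fun i _ => ?_
    rw [show β (p (Pi.single i 1)) = α (π (Pi.single i 1)) from LinearMap.congr_fun hp _]
  have hE : Function.Exact K.subtype β := LinearMap.exact_iff.2 (Submodule.range_subtype K).symm
  obtain ⟨v', hv'⟩ := (rTensor_exact (M := ↥K) (N := M' →₀ R) (Q.complex.X 1) hE hβ _).1 hf
  let y : K ⊗[R] Q.complex.X 0 := ∑ j, (⟨p (r j), hk j⟩ : K) ⊗ₜ e' j
  have hflat : Module.Flat R (Q.complex.X 0) := by
    have : Module.Projective R (Q.complex.X 0) := (IsProjective.iff_projective (R := R) _).2 (Q.projective 0)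
    infer_instance
  have hdd : ∀ x, LinearMap.lTensor (M' →₀ R) (Q.complex.d 1 0).hom
      (LinearMap.lTensor (M' →₀ R) (Q.complex.d 2 1).hom x) = 0 := fun x => by
    rw [← LinearMap.comp_apply, ← LinearMap.lTensor_comp, ← ModuleCat.hom_comp,
      HomologicalComplex.d_comp_d, ModuleCat.hom_zero, LinearMap.lTensor_zero, LinearMap.zero_apply]
  have hy : y = LinearMap.lTensor K (Q.complex.d 1 0).hom v' := by
    refine Module.Flat.rTensor_preserves_injective_linearMap K.subtype K.injective_subtype ?_
    rw [← LinearMap.comp_apply _ (LinearMap.lTensor K _), LinearMap.rTensor_comp_lTensor,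
      ← LinearMap.lTensor_comp_rTensor, LinearMap.comp_apply, hv', map_sub,
      sub_eq_self.2 (hdd _)]
    simp only [y, f, map_sum, LinearMap.rTensor_tmul, LinearMap.lTensor_tmul, hv,
      Submodule.coe_subtype, TensorProduct.tmul_sum, TensorProduct.tmul_smul]
    rw [Finset.sum_comm]
    refine Finset.sum_congr rfl fun j _ => ?_
    simp only [TensorProduct.smul_tmul', ← TensorProduct.sum_tmul]
    congr 1
    conv_lhs => rw [pi_eq_sum_univ' (r j)]
    simp [map_sum]
  have hx : LinearMap.lTensor K (LinearMap.range T).mkQ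
      (∑ j, (⟨p (r j), hk j⟩ : K) ⊗ₜ (Pi.single j 1 : Fin m → R)) = 0 := by
    have := congrArg (LinearMap.lTensor K ε) hy
    rw [← LinearMap.comp_apply _ (LinearMap.lTensor K _) v', ← LinearMap.lTensor_comp,
      hεex.linearMap_comp_eq_zero, LinearMap.lTensor_zero, LinearMap.zero_apply] at this
    simpa [y, he', ebar] using this
  obtain ⟨t, ht⟩ := (lTensor_exact K (LinearMap.exact_map_mkQ_range T)
    (Submodule.mkQ_surjective _) _).1 hx
  let c : (Fin n → R) →ₗ[R] K := Fintype.linearCombination R
    ((TensorProduct.piScalarRight R R K (Fin n)) t)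
  have hc : ∀ j, c (r j) = ⟨p (r j), hk j⟩ := fun j => by
    have h1 := congrFun (congrArg (TensorProduct.piScalarRight R R K (Fin m)) ht) j
    have h2 : ∀ t : K ⊗[R] (Fin n → R),
        (TensorProduct.piScalarRight R R K (Fin m)) (LinearMap.lTensor K T t) j =
          ∑ i, r j i • (TensorProduct.piScalarRight R R K (Fin n)) t i := fun t => by
      induction t using TensorProduct.induction_on with
      | zero => simp
      | add a b ha hb =>
        simp only [map_add, Pi.add_apply, ha, hb, smul_add, Finset.sum_add_distrib]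
      | tmul k a =>
        simp [T, Fintype.linearCombination_apply, Finset.sum_smul, smul_smul, mul_comm]
    rw [h2] at h1
    rw [show c (r j) = _ from Fintype.linearCombination_apply R _ _, h1]
    simp [map_sum, Pi.single_apply]
  have hle : K₀ ≤ LinearMap.ker (p - K.subtype ∘ₗ c) := by
    rw [← hr, Submodule.span_le]
    rintro _ ⟨j, rfl⟩
    simp [hc]
  refine ⟨K₀.liftQ _ hle ∘ₗ e.toLinearMap, ?_⟩
  refine (LinearMap.cancel_right hπ).1 ?_
  have : K₀.liftQ _ hle ∘ₗ e.toLinearMap ∘ₗ π = p - K.subtype ∘ₗ c := by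
    ext x
    simp [π]
  rw [LinearMap.comp_assoc, LinearMap.comp_assoc, this, LinearMap.comp_sub, hp]
  ext x
  simpa using LinearMap.mem_ker.1 (c (Pi.single _ 1)).2

end Groth.Agent.Lib.Tor.MapZero
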