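import Groth.Agent.Lib.Tor.Balance
import Groth.Agent.Lib.Tor.MapZero
import Mathlib.Algebra.Homology.Augment

/-!
# Tor_1 from a short exact sequence with flat middle term
-/

universe u

open CategoryTheory CategoryTheory.Limits TensorProduct MonoidalCategory

namespace Groth.Agent.Lib.Tor.Splice

variable {R : Type u} [CommRing R]

/-- A chain map sending all cycles to boundaries is zero on homology. -/
theorem homologyMap_eq_zero {K L : ChainComplex (ModuleCat.{u} R) ℕ} (φ : K ⟶ L) (i : ℕ)
    (h : ∀ z : K.X (i + 1), K.d (i + 1) i z = 0 → ∃ w : L.X (i + 2), L.d (i + 2) (i + 1) w = φ.f (i + 1) z) :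
    HomologicalComplex.homologyMap φ (i + 1) = 0 := by
  rw [← cancel_epi (K.homologyπ (i + 1)), comp_zero, HomologicalComplex.homologyπ_naturality]
  ext z
  obtain ⟨w, hw⟩ := h (K.iCycles (i + 1) z) (by
    rw [← ConcreteCategory.comp_apply, HomologicalComplex.iCycles_d]
    simp)
  have hz : L.toCycles (i + 2) (i + 1) w = HomologicalComplex.cyclesMap φ (i + 1) z := by
    refine (ModuleCat.mono_iff_injective (L.iCycles (i + 1))).1 inferInstance ?_
    rw [← ConcreteCategory.comp_apply, HomologicalComplex.toCycles_i, hw,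
      ← ConcreteCategory.comp_apply, ← ConcreteCategory.comp_apply,
      HomologicalComplex.cyclesMap_i]
  change L.homologyπ (i + 1) (HomologicalComplex.cyclesMap φ (i + 1) z) = 0
  rw [← hz, ← ConcreteCategory.comp_apply, HomologicalComplex.toCycles_comp_homologyπ]
  simp

variable {K F M : ModuleCat.{u} R} (ι : K ⟶ F) (P : ProjectiveResolution K)

/-- `⋯ → P₁ → P₀ → F`. -/
noncomputable def spliced : ChainComplex (ModuleCat.{u} R) ℕ :=
  P.complex.augment (P.π.f 0 ≫ ι) (by
    rw [← Category.assoc]
    exact (congrArg (· ≫ ι) P.complex_d_comp_π_f_zero).trans zero_comp)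

theorem spliced_flat [Module.Flat R F] : ∀ i, Module.Flat R ((spliced ι P).X i)
  | 0 => inferInstanceAs (Module.Flat R F)
  | i + 1 => Balance.flat_of_projective (P.complex.X i)

theorem spliced_exactAt (hι : Function.Injective ι) : ∀ n, (spliced ι P).ExactAt (n + 1)
  | 0 => by
    rw [HomologicalComplex.exactAt_iff' _ 2 1 0 (by simp) (by simp), ShortComplex.moduleCat_exact_iff_ker_sub_range]
    intro x hx
    change ι (P.π.f 0 x) = 0 at hx
    have hP : (P.π.f 0) x = 0 := hι (hx.trans (map_zero ι.hom).symm)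
    exact ((ShortComplex.moduleCat_exact_iff_ker_sub_range _).1 (Balance.resolution_exact_zero P)) hP
  | n + 1 => by
    rw [HomologicalComplex.exactAt_iff' _ (n + 3) (n + 2) (n + 1) (by simp) (by simp)]
    exact (HomologicalComplex.exactAt_iff' _ (n + 2) (n + 1) n (by simp) (by simp)).1
      (P.complex_exactAt_succ n)

/-- The spliced complex computes Tor of the cokernel. -/
noncomputable def torIso [Module.Flat R F] (β : F ⟶ M) (hι : Function.Injective ι)
    (hβ : Function.Surjective β) (hex : Function.Exact ι β) (n : ℕ) :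
    Balance.tensorCxFun (spliced ι P) ⋙ HomologicalComplex.homologyFunctor _ (ComplexShape.down ℕ) n ≅
      (CategoryTheory.Tor (ModuleCat.{u} R) n).obj M :=
  Balance.torIsoOfFlatResolution (spliced ι P) (spliced_flat ι P) (spliced_exactAt ι P hι) β
    (by ext x; exact hex.apply_apply_eq_zero _) ((ModuleCat.epi_iff_surjective β).2 hβ)
    ((ShortComplex.moduleCat_exact_iff_ker_sub_range _).2 fun x hx => by
      obtain ⟨k, rfl⟩ := (hex x).1 hx
      obtain ⟨p, rfl⟩ := (ModuleCat.epi_iff_surjective (P.π.f 0)).1 inferInstance k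
      exact ⟨p, rfl⟩) n

/-- A map of modules is zero on `Tor_1(M, -)` if its base change kills `ker(K ⊗ - → F ⊗ -)`. -/
theorem tor_one_map_eq_zero [Module.Flat R F] (β : F ⟶ M) (hι : Function.Injective ι)
    (hβ : Function.Surjective β) (hex : Function.Exact ι β) {N N' : ModuleCat.{u} R} (g : N ⟶ N')
    (h : ∀ y : K ⊗[R] N, LinearMap.rTensor N ι.hom y = 0 → LinearMap.lTensor K g.hom y = 0) :
    ((CategoryTheory.Tor (ModuleCat.{u} R) 1).obj M).map g = 0 := by
  let P := projectiveResolution K
  rw [← cancel_epi ((torIso ι P β hι hβ hex 1).hom.app N), comp_zero,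
    ← (torIso ι P β hι hβ hex 1).hom.naturality]
  have hz : HomologicalComplex.homologyMap ((Balance.tensorCxFun (spliced ι P)).map g) 1 = 0 := by
    refine homologyMap_eq_zero _ 0 fun z hz => ?_
    change ∃ w : P.complex.X 1 ⊗[R] N', LinearMap.rTensor N' (P.complex.d 1 0).hom w =
      LinearMap.lTensor (P.complex.X 0) g.hom z
    have h0 : LinearMap.rTensor N ι.hom (LinearMap.rTensor N (P.π.f 0).hom z) = 0 :=
      (LinearMap.congr_fun (LinearMap.rTensor_comp N ι.hom (P.π.f 0).hom) z).symm.trans hz
    have hπ : Function.Surjective (P.π.f 0).hom :=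
      (ModuleCat.epi_iff_surjective (P.π.f 0)).1 inferInstance
    have hd : Function.Exact (P.complex.d 1 0).hom (P.π.f 0).hom :=
      LinearMap.exact_iff.2 ((ShortComplex.moduleCat_exact_iff_range_eq_ker _).1
        (Balance.resolution_exact_zero P)).symm
    refine ((rTensor_exact (M := P.complex.X 1) (N := P.complex.X 0) N' hd hπ) _).1 ?_
    exact (LinearMap.congr_fun ((LinearMap.rTensor_comp_lTensor _ _ _).trans
      (LinearMap.lTensor_comp_rTensor _ _ _).symm) z).trans (h _ h0)
  change HomologicalComplex.homologyMap _ 1 ≫ _ = 0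
  rw [hz, zero_comp]
  rfl

end Groth.Agent.Lib.Tor.Splice
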