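import Groth.Agent.Lib.Tor.Balance
import Groth.Agent.Lib.Tor.Splice
import Mathlib.RingTheory.Flat.Basic
import Mathlib.LinearAlgebra.TensorProduct.RightExactness
import Mathlib.RingTheory.Noetherian.Basic

/-!
# Elements annihilating higher Tor uniformly
-/

universe u

open CategoryTheory CategoryTheory.Limits TensorProduct

namespace Groth.Agent.Lib.Tor.Annihilate

variable {A : Type u} [CommRing A]

/-- `s` kills the homology of `P ⊗ X` above degree `n` for every flat exact `P`. -/
def Kills (s : A) (n : ℕ) (X : Type u) [AddCommGroup X] [Module A X] : Prop :=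
  ∀ (P : ChainComplex (ModuleCat.{u} A) ℕ), (∀ i, Module.Flat A (P.X i)) → (∀ i, P.ExactAt (i + 1)) →
    ∀ (i : ℕ), n ≤ i → ∀ z : P.X (i + 1) ⊗[A] X, LinearMap.rTensor X (P.d (i + 1) i).hom z = 0 →
      ∃ w : P.X (i + 2) ⊗[A] X, LinearMap.rTensor X (P.d (i + 2) (i + 1)).hom w = s • z

variable {s s' : A} {n : ℕ} {X Y B : Type u} [AddCommGroup X] [Module A X] [AddCommGroup Y] [Module A Y]
  [AddCommGroup B] [Module A B]

theorem Kills.mul (h : Kills s n X) (t : A) : Kills (t * s) n X := fun P hf he i hi z hz => by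
  obtain ⟨w, hw⟩ := h P hf he i hi z hz
  exact ⟨t • w, by rw [map_smul, hw, mul_smul]⟩

theorem kills_one_of_flat [Module.Flat A X] : Kills (1 : A) 0 X := fun P _ he i _ z hz => by
  have hex : Function.Exact (P.d (i + 2) (i + 1)).hom (P.d (i + 1) i).hom :=
    LinearMap.exact_iff.2 ((ShortComplex.moduleCat_exact_iff_range_eq_ker _).1
      ((HomologicalComplex.exactAt_iff' _ (i + 2) (i + 1) i (by simp) (by simp)).1 (he i))).symm
  rw [one_smul]
  exact (Module.Flat.rTensor_exact X hex _).1 hz

/-- If multiplication by `v` on `B` factors through `X`. -/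
theorem Kills.factor (h : Kills s n X) (f : B →ₗ[A] X) (g : X →ₗ[A] B) (v : A)
    (hv : ∀ b, g (f b) = v • b) : Kills (s * v) n B := fun P hf he i hi z hz => by
  obtain ⟨w, hw⟩ := h P hf he i hi (LinearMap.lTensor _ f z) (by
    rw [← LinearMap.comp_apply, LinearMap.rTensor_comp_lTensor, ← LinearMap.lTensor_comp_rTensor,
      LinearMap.comp_apply, hz, map_zero])
  refine ⟨LinearMap.lTensor _ g w, ?_⟩
  rw [← LinearMap.comp_apply, LinearMap.rTensor_comp_lTensor, ← LinearMap.lTensor_comp_rTensor,
    LinearMap.comp_apply, hw, map_smul, mul_smul, ← LinearMap.comp_apply, ← LinearMap.lTensor_comp,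
    show g ∘ₗ f = v • LinearMap.id from LinearMap.ext hv, LinearMap.lTensor_smul, LinearMap.lTensor_id]
  rfl

/-- The cokernel of an injection. -/
theorem Kills.coker (hY : Kills s' n Y) (hX : Kills s n X) (j : Y →ₗ[A] X) (p : X →ₗ[A] B)
    (hj : Function.Injective j) (hp : Function.Surjective p) (hex : Function.Exact j p) :
    Kills (s * s') (n + 1) B := fun P hf he i hi z hz => by
  obtain ⟨i, rfl⟩ : ∃ k, i = k + 1 := ⟨i - 1, by omega⟩
  obtain ⟨x, rfl⟩ := LinearMap.lTensor_surjective _ hp z
  obtain ⟨y, hy⟩ := (lTensor_exact (P.X (i + 1)) hex hp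
    (LinearMap.rTensor X (P.d (i + 2) (i + 1)).hom x)).1 (by
      rw [← hz]
      exact LinearMap.congr_fun ((LinearMap.lTensor_comp_rTensor _ _ _).trans
        (LinearMap.rTensor_comp_lTensor _ _ _).symm) x)
  have := hf i
  obtain ⟨v, hv⟩ := hY P hf he i (by omega) y (Module.Flat.lTensor_preserves_injective_linearMap j hj (by
    rw [map_zero, ← LinearMap.comp_apply, LinearMap.lTensor_comp_rTensor, ← LinearMap.rTensor_comp_lTensor,
      LinearMap.comp_apply, hy, ← LinearMap.comp_apply, ← LinearMap.rTensor_comp, ← ModuleCat.hom_comp,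
      HomologicalComplex.d_comp_d, ModuleCat.hom_zero, LinearMap.rTensor_zero, LinearMap.zero_apply]))
  obtain ⟨w, hw⟩ := hX P hf he (i + 1) (by omega) (s' • x - LinearMap.lTensor _ j v) (by
    rw [map_sub, map_smul, ← hy, ← map_smul, ← hv, sub_eq_zero]
    exact LinearMap.congr_fun ((LinearMap.lTensor_comp_rTensor _ _ _).trans
      (LinearMap.rTensor_comp_lTensor _ _ _).symm) v)
  refine ⟨LinearMap.lTensor _ p w, ?_⟩
  rw [← LinearMap.comp_apply, LinearMap.rTensor_comp_lTensor, ← LinearMap.lTensor_comp_rTensor,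
    LinearMap.comp_apply, hw, map_smul, map_sub, map_smul,
    (lTensor_exact (P.X (i + 2)) hex hp).apply_apply_eq_zero, sub_zero, smul_smul]

/-- The elementwise property bounds `Tor`. -/
theorem smul_tor_eq_zero (h : Kills s n X) (M : Type u) [AddCommGroup M] [Module A M] (i : ℕ) (hi : n < i)
    (y : ((CategoryTheory.Tor (ModuleCat.{u} A) i).obj (ModuleCat.of A M)).obj (ModuleCat.of A X)) :
    s • y = 0 := by
  obtain ⟨i, rfl⟩ : ∃ k, i = k + 1 := ⟨i - 1, by omega⟩
  let P := projectiveResolution (ModuleCat.of A M)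
  let e := Balance.torObjIso P (ModuleCat.of A X) (i + 1)
  let K := ((MonoidalCategory.tensorRight (ModuleCat.of A X)).mapHomologicalComplex
    (ComplexShape.down ℕ)).obj P.complex
  refine e.toLinearEquiv.injective ?_
  rw [map_smul, map_zero]
  obtain ⟨c, hc⟩ := (ModuleCat.epi_iff_surjective (K.homologyπ (i + 1))).1 inferInstance (e.toLinearEquiv y)
  rw [← hc, ← map_smul]
  obtain ⟨w, hw⟩ := h P.complex (fun j => Balance.flat_of_projective _) P.complex_exactAt_succ i (by omega)
    (K.iCycles (i + 1) c) (by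
      change (K.iCycles (i + 1) ≫ K.d (i + 1) i) c = 0
      rw [HomologicalComplex.iCycles_d]
      rfl)
  have hz : K.toCycles (i + 2) (i + 1) w = s • c := by
    refine (ModuleCat.mono_iff_injective (K.iCycles (i + 1))).1 inferInstance ?_
    rw [← ConcreteCategory.comp_apply, HomologicalComplex.toCycles_i]
    exact hw.trans (map_smul (K.iCycles (i + 1)).hom s c).symm
  rw [← hz, ← ConcreteCategory.comp_apply, HomologicalComplex.toCycles_comp_homologyπ]
  rfl

end Groth.Agent.Lib.Tor.Annihilate
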