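import Groth.Agent.Lib.Tor.Balance
import Mathlib.Algebra.Category.ModuleCat.ChangeOfRings
import Mathlib.Algebra.Category.ModuleCat.ChangeOfRingsExact
import Mathlib.RingTheory.Flat.Stability
import Mathlib.RingTheory.Flat.Localization
import Mathlib.RingTheory.Localization.BaseChange
import Mathlib.Algebra.Homology.ShortComplex.ModuleCat

/-!
# Base change for Tor
-/

universe u

namespace Groth.Agent.Lib.Tor.BaseChange

open CategoryTheory CategoryTheory.Limits MonoidalCategory ShortComplex.ShortExact
open scoped TensorProduct
open Groth.Agent.Lib.Tor.Balance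

variable (A A' : Type u) [CommRing A] [CommRing A'] [Algebra A A']

/-- Base change of modules. -/
@[simps]
noncomputable def bc : ModuleCat.{u} A ⥤ ModuleCat.{u} A' where
  obj X := ModuleCat.of A' (A' ⊗[A] X)
  map f := ModuleCat.ofHom (f.hom.baseChange A')
  map_id X := by ext : 1; simp
  map_comp f g := by ext : 1; simp [LinearMap.baseChange_comp]

instance bc_additive : (bc A A').Additive where
  map_add {X Y f g} := by
    apply ModuleCat.hom_ext
    exact LinearMap.baseChange_add f.hom g.hom

instance bc_preservesProjectives : (bc A A').PreservesProjectiveObjects where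
  projective_obj {X} hX := by
    have : Module.Projective A X := (IsProjective.iff_projective X).2 hX
    exact (IsProjective.iff_projective (ModuleCat.of A' (A' ⊗[A] X))).1 inferInstance

instance bc_preservesHomology [Module.Flat A A'] : (bc A A').PreservesHomology := by
  refine ((Functor.exact_tfae (bc A A')).out 1 2 :
    (∀ S : ShortComplex (ModuleCat.{u} A), S.Exact → (S.map (bc A A')).Exact) ↔
      (bc A A').PreservesHomology).mp (fun S hS => ?_)
  rw [moduleCat_exact_iff_function_exact] at hS ⊢
  exact Module.Flat.lTensor_exact A' hS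

/-- Semilinear bijection on homology from an iso after restriction of scalars. -/
lemma exists_semilinear {ι : Type*} {c : ComplexShape ι}
    {K : HomologicalComplex (ModuleCat.{u} A') c} {L : HomologicalComplex (ModuleCat.{u} A) c}
    (e : ((ModuleCat.restrictScalars (algebraMap A A')).mapHomologicalComplex c).obj K ≅ L)
    (i : ι) :
    ∃ φ : L.homology i →ₛₗ[algebraMap A A'] K.homology i, Function.Bijective φ := by
  let e' : L.homology i ≅ (ModuleCat.restrictScalars (algebraMap A A')).obj (K.homology i) :=
    (HomologicalComplex.homologyFunctor _ c i).mapIso e.symm ≪≫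
      (K.sc i).mapHomologyIso (ModuleCat.restrictScalars (algebraMap A A'))
  refine ⟨{ toFun := fun x => e'.toLinearEquiv x
            map_add' := fun x y => e'.toLinearEquiv.map_add x y
            map_smul' := fun r x => e'.toLinearEquiv.map_smul r x }, ?_⟩
  exact e'.toLinearEquiv.bijective

/-- Transport of semilinear bijections along linear isomorphisms. -/
lemma semilinear_transport {M M₀ : ModuleCat.{u} A} {N N₀ : ModuleCat.{u} A'} (a : M ≅ M₀)
    (b : N₀ ≅ N) (h : ∃ φ : M₀ →ₛₗ[algebraMap A A'] N₀, Function.Bijective φ) :
    ∃ φ : M →ₛₗ[algebraMap A A'] N, Function.Bijective φ := by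
  obtain ⟨φ, hφ⟩ := h
  refine ⟨{ toFun := fun x => b.toLinearEquiv (φ (a.toLinearEquiv x))
            map_add' := fun x y => by simp
            map_smul' := fun r x => by
              simp only [map_smul, LinearMap.map_smulₛₗ] }, ?_⟩
  exact b.toLinearEquiv.bijective.comp (hφ.comp a.toLinearEquiv.bijective)

/-- An isomorphism out of a restriction of scalars from an additive equivalence. -/
noncomputable def restrictIso (M : ModuleCat.{u} A') (N : ModuleCat.{u} A) (e : M ≃+ N)
    (he : ∀ (r : A) (x : M), e (algebraMap A A' r • x) = r • e x) :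
    (ModuleCat.restrictScalars (algebraMap A A')).obj M ≅ N where
  hom := ModuleCat.ofHom (X := (ModuleCat.restrictScalars (algebraMap A A')).obj M)
    { toFun := fun x => e x
      map_add' := fun x y => e.map_add x y
      map_smul' := fun r x => he r x }
  inv := ModuleCat.ofHom (Y := (ModuleCat.restrictScalars (algebraMap A A')).obj M)
    { toFun := fun x => e.symm x
      map_add' := fun x y => e.symm.map_add x y
      map_smul' := fun r x => by
        refine e.injective (Eq.trans ?_ (he r (e.symm x)).symm)
        simp }
  hom_inv_id := by ext x; exact e.symm_apply_apply x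
  inv_hom_id := by ext x; exact e.apply_symm_apply x

variable (P' : Type u) [AddCommGroup P'] [Module A' P'] [Module A P'] [IsScalarTower A A' P']

/-- `restrict (P' ⊗_{A'} (A' ⊗_A X)) ≅ P' ⊗_A X`, componentwise. -/
noncomputable def cancelEquiv (X : Type u) [AddCommGroup X] [Module A X] :
    (ModuleCat.restrictScalars (algebraMap A A')).obj (ModuleCat.of A' (P' ⊗[A'] (A' ⊗[A] X))) ≅
      ModuleCat.of A (P' ⊗[A] X) :=
  restrictIso A A' _ _ (TensorProduct.AlgebraTensorModule.cancelBaseChange A A' A' P' X).toAddEquiv
    (fun r x => ((TensorProduct.AlgebraTensorModule.cancelBaseChange A A' A' P' X).map_smul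
      (algebraMap A A' r) x).trans (algebraMap_smul A' r _))

/-- `restrict (P' ⊗_{A'} (A' ⊗_A -)) ≅ P' ⊗_A -`. -/
noncomputable def cancelNatIso :
    bc A A' ⋙ tensorLeft (ModuleCat.of A' P') ⋙ ModuleCat.restrictScalars (algebraMap A A') ≅
      tensorLeft (ModuleCat.of A P') :=
  NatIso.ofComponents (fun X => cancelEquiv A A' P' X) (fun {X Y} f => by
    ext x
    induction x using TensorProduct.induction_on with
    | zero => exact (map_zero _).trans (map_zero _).symm
    | add a b ha hb => exact (map_add _ a b).trans ((congrArg₂ (· + ·) ha hb).trans (map_add _ a b).symm)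
    | tmul p y =>
      induction y using TensorProduct.induction_on with
      | zero =>
        exact ((congrArg _ (TensorProduct.tmul_zero _ p)).trans (map_zero _)).trans
          ((congrArg _ (TensorProduct.tmul_zero _ p)).trans (map_zero _)).symm
      | add a b ha hb =>
        exact ((congrArg _ (TensorProduct.tmul_add p a b)).trans (map_add _ _ _)).trans
          ((congrArg₂ (· + ·) ha hb).trans
            ((congrArg _ (TensorProduct.tmul_add p a b)).trans (map_add _ _ _)).symm)
      | tmul a z => rfl)

/-- The same, on the other side. -/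
noncomputable def cancelNatIsoRight :
    bc A A' ⋙ tensorRight (ModuleCat.of A' P') ⋙ ModuleCat.restrictScalars (algebraMap A A') ≅
      tensorRight (ModuleCat.of A P') :=
  Functor.isoWhiskerLeft (bc A A') (Functor.isoWhiskerRight
      (BraidedCategory.tensorLeftIsoTensorRight (ModuleCat.of A' P')).symm _) ≪≫
    cancelNatIso A A' P' ≪≫ BraidedCategory.tensorLeftIsoTensorRight (ModuleCat.of A P')

/-- Flat base change in the second variable. -/
theorem tor_flat_baseChange [Module.Flat A A'] (Q : Type u) [AddCommGroup Q] [Module A Q] (n : ℕ) :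
    ∃ φ : ((CategoryTheory.Tor (ModuleCat.{u} A) n).obj (ModuleCat.of A P')).obj (ModuleCat.of A Q)
        →ₛₗ[algebraMap A A']
        ((CategoryTheory.Tor (ModuleCat.{u} A') n).obj (ModuleCat.of A' P')).obj
          (ModuleCat.of A' (A' ⊗[A] Q)),
      Function.Bijective φ := by
  let R := projectiveResolution (ModuleCat.of A Q)
  let R' : ProjectiveResolution ((bc A A').obj (ModuleCat.of A Q)) :=
    (bc A A').mapProjectiveResolution R
  refine semilinear_transport A A'
    (R.isoLeftDerivedObj ((tensoringLeft (ModuleCat.{u} A)).obj (ModuleCat.of A P')) n)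
    (R'.isoLeftDerivedObj ((tensoringLeft (ModuleCat.{u} A')).obj (ModuleCat.of A' P')) n).symm ?_
  exact exists_semilinear A A' (K := ((tensorLeft (ModuleCat.of A' P')).mapHomologicalComplex
      (ComplexShape.down ℕ)).obj R'.complex)
    ((NatIso.mapHomologicalComplex (cancelNatIso A A' P') _).app R.complex) n

/-- The underlying module of the base change. -/
noncomputable def bcRestrictIso :
    bc A A' ⋙ ModuleCat.restrictScalars (algebraMap A A') ≅ tensorLeft (ModuleCat.of A A') :=
  NatIso.ofComponents (fun X => restrictIso A A' (ModuleCat.of A' (A' ⊗[A] X)) (ModuleCat.of A (A' ⊗[A] X))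
    (AddEquiv.refl (A' ⊗[A] X))
    (fun r x => algebraMap_smul A' r x)) (fun {X Y} f => rfl)

/-- Base change in the first variable when `Tor_q(P, A') = 0` for `q > 0`. -/
theorem tor_baseChange_of_vanishing (P : Type u) [AddCommGroup P] [Module A P]
    (hP : ∀ q : ℕ, 0 < q → Subsingleton (((CategoryTheory.Tor (ModuleCat.{u} A) q).obj
      (ModuleCat.of A P)).obj (ModuleCat.of A A') : ModuleCat.{u} A))
    (Q' : Type u) [AddCommGroup Q'] [Module A' Q'] [Module A Q'] [IsScalarTower A A' Q'] (n : ℕ) :
    ∃ φ : ((CategoryTheory.Tor (ModuleCat.{u} A) n).obj (ModuleCat.of A P)).obj (ModuleCat.of A Q')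
        →ₛₗ[algebraMap A A']
        ((CategoryTheory.Tor (ModuleCat.{u} A') n).obj (ModuleCat.of A' (A' ⊗[A] P))).obj
          (ModuleCat.of A' Q'),
      Function.Bijective φ := by
  let R := projectiveResolution (ModuleCat.of A P)
  let F := ((bc A A').mapHomologicalComplex (ComplexShape.down ℕ)).obj R.complex
  have hflat : ∀ i, Module.Flat A' (F.X i) := fun i => by
    have := flat_of_projective (R.complex.X i)
    change Module.Flat A' (A' ⊗[A] R.complex.X i)
    infer_instance
  have hex : ∀ q, F.ExactAt (q + 1) := fun q => by
    obtain ⟨φ, hφ⟩ := exists_semilinear A A' (K := F)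
      ((NatIso.mapHomologicalComplex (bcRestrictIso A A' ≪≫
        BraidedCategory.tensorLeftIsoTensorRight (ModuleCat.of A A')) _).app R.complex) (q + 1)
    rw [HomologicalComplex.exactAt_iff_isZero_homology]
    have := hP (q + 1) q.succ_pos
    have hz : Subsingleton ((((tensorRight (ModuleCat.of A A')).mapHomologicalComplex
        (ComplexShape.down ℕ)).obj R.complex).homology (q + 1) : ModuleCat.{u} A) :=
      (torObjIso R (ModuleCat.of A A') (q + 1)).toLinearEquiv.symm.injective.subsingleton
    have : Subsingleton (F.homology (q + 1)) := hφ.surjective.subsingleton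
    exact ModuleCat.isZero_of_subsingleton _
  let ε : F.X 0 ⟶ ModuleCat.of A' (A' ⊗[A] P) := (bc A A').map (R.π.f 0)
  have w : F.d 1 0 ≫ ε = 0 := by
    change (bc A A').map (R.complex.d 1 0) ≫ (bc A A').map (R.π.f 0) = 0
    rw [← Functor.map_comp, R.complex_d_comp_π_f_zero]
    exact Functor.map_zero _ _ _
  have hsurj : Function.Surjective (R.π.f 0) :=
    (ModuleCat.epi_iff_surjective (R.π.f 0)).1 inferInstance
  have he : Epi ε := (ModuleCat.epi_iff_surjective ε).2 (LinearMap.lTensor_surjective A' hsurj)
  have hz : (ShortComplex.mk _ _ w).Exact := by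
    have h := resolution_exact_zero R
    rw [moduleCat_exact_iff_function_exact] at h ⊢
    exact lTensor_exact A' h hsurj
  refine semilinear_transport A A' (torObjIso R (ModuleCat.of A Q') n)
    ((torIsoOfFlatResolution F hflat hex ε w he hz n).app (ModuleCat.of A' Q')) ?_
  exact exists_semilinear A A' (K := ((tensorRight (ModuleCat.of A' Q')).mapHomologicalComplex
      (ComplexShape.down ℕ)).obj F)
    ((NatIso.mapHomologicalComplex (cancelNatIsoRight A A' Q') _).app R.complex) n

/-- Localisation does not change Tor. -/
theorem tor_localization (S : Submonoid A) [IsLocalization S A'] (Q : Type u) [AddCommGroup Q]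
    [Module A' Q] [Module A Q] [IsScalarTower A A' Q] (n : ℕ) :
    ∃ φ : ((CategoryTheory.Tor (ModuleCat.{u} A) n).obj (ModuleCat.of A P')).obj (ModuleCat.of A Q)
        →ₛₗ[algebraMap A A']
        ((CategoryTheory.Tor (ModuleCat.{u} A') n).obj (ModuleCat.of A' P')).obj
          (ModuleCat.of A' Q),
      Function.Bijective φ := by
  have : Module.Flat A A' := IsLocalization.flat A' S
  have : IsLocalizedModule S (LinearMap.id : Q →ₗ[A] Q) :=
    { map_units := fun s => by
        rw [Module.End.isUnit_iff]
        have hu := IsLocalization.map_units A' s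
        refine ⟨fun x y h => ?_, fun x => ⟨(↑hu.unit⁻¹ : A') • x, ?_⟩⟩
        · simp only [Module.algebraMap_end_apply] at h
          rw [← algebraMap_smul A' (s : A) x, ← algebraMap_smul A' (s : A) y] at h
          exact hu.smul_left_cancel.1 h
        · simp only [Module.algebraMap_end_apply]
          rw [← algebraMap_smul A' (s : A), smul_smul, IsUnit.mul_val_inv, one_smul]
      surj := fun y => ⟨(y, 1), by simp⟩
      exists_of_eq := fun h => ⟨1, by simpa using h⟩ }
  have hb : IsBaseChange A' (LinearMap.id : Q →ₗ[A] Q) :=
    IsLocalizedModule.isBaseChange S A' _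
  exact semilinear_transport A A' (Iso.refl _)
    (((CategoryTheory.Tor (ModuleCat.{u} A') n).obj (ModuleCat.of A' P')).mapIso
      hb.equiv.toModuleIso) (tor_flat_baseChange A A' P' Q n)

end Groth.Agent.Lib.Tor.BaseChange
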