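import Groth.Agent.Lib.Tor.Annihilate
import Mathlib.RingTheory.Localization.Away.Basic
import Mathlib.RingTheory.MvPolynomial.Localization
import Mathlib.RingTheory.Polynomial.Basic
import Mathlib.LinearAlgebra.FreeModule.Basic
import Mathlib.Data.Finite.Sum
import Mathlib.Tactic.LinearCombination
import Mathlib.RingTheory.Localization.Ideal

/-!
# Uniform annihilation of higher Tor of quotients of polynomial rings by `a * X l - g l`
-/

universe u

open MvPolynomial

attribute [local instance] MvPolynomial.algebraMvPolynomial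

namespace Groth.Agent.Lib.Tor.Chart

variable {A : Type u} [CommRing A] {r : ℕ} {τ : Type u} (a : A) (g : Fin r → MvPolynomial τ A)

/-- The relation `a * X l - g l`. -/
noncomputable def rel (l : Fin r) : MvPolynomial (Fin r ⊕ τ) A :=
  C a * X (Sum.inl l) - rename Sum.inr (g l)

/-- The ideal of the first `k` relations. -/
noncomputable def relIdeal (k : ℕ) : Ideal (MvPolynomial (Fin r ⊕ τ) A) :=
  Ideal.span (rel a g '' {l | (l : ℕ) < k})

local notation "Aₐ" => Localization.Away a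

/-- Solving the first `k` relations over `A_a`. -/
noncomputable def elim (k : ℕ) : MvPolynomial (Fin r ⊕ τ) A →+* MvPolynomial (Fin r ⊕ τ) Aₐ :=
  eval₂Hom (C.comp (algebraMap A Aₐ)) (Sum.elim
    (fun l => if (l : ℕ) < k then C (IsLocalization.Away.invSelf (S := Aₐ) a) *
      rename Sum.inr (MvPolynomial.map (algebraMap A Aₐ) (g l)) else X (Sum.inl l))
    (fun t => X (Sum.inr t)))

theorem C_inv_mul : (C (algebraMap A Aₐ a) : MvPolynomial (Fin r ⊕ τ) Aₐ) *
    C (IsLocalization.Away.invSelf (S := Aₐ) a) = 1 := by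
  rw [← map_mul, IsLocalization.Away.mul_invSelf, map_one]

theorem elim_rename_inr (k : ℕ) (q : MvPolynomial τ A) :
    elim a g k (rename Sum.inr q) = rename Sum.inr (MvPolynomial.map (algebraMap A Aₐ) q) := by
  induction q using MvPolynomial.induction_on with
  | C c => simp [elim]
  | add p q hp hq => simp [map_add, hp, hq]
  | mul_X p t hp => simp only [map_mul, hp, rename_X, map_X]; simp [elim]

theorem elim_rel (k : ℕ) (l : Fin r) : elim a g k (rel a g l) = if (l : ℕ) < k then 0 else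
    C (algebraMap A Aₐ a) * X (Sum.inl l) - rename Sum.inr (MvPolynomial.map (algebraMap A Aₐ) (g l)) := by
  rw [rel, map_sub, map_mul, elim_rename_inr]
  split_ifs with h
  · simp [elim, h, ← mul_assoc, C_inv_mul]
  · simp [elim, h]

theorem relIdeal_le_ker (k : ℕ) : relIdeal a g k ≤ RingHom.ker (elim a g k) := by
  rw [relIdeal, Ideal.span_le]
  rintro _ ⟨l, hl, rfl⟩
  rw [SetLike.mem_coe, RingHom.mem_ker, elim_rel, if_pos (show (l : ℕ) < k from hl)]

variable [Finite τ] [IsNoetherianRing A]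

theorem exists_pow_mem_of_elim_eq_zero (k : ℕ) {p : MvPolynomial (Fin r ⊕ τ) A} (hp : elim a g k p = 0) :
    ∃ m, C a ^ m * p ∈ relIdeal a g k := by
  let φ : MvPolynomial (Fin r ⊕ τ) A →+* MvPolynomial (Fin r ⊕ τ) Aₐ :=
    MvPolynomial.map (algebraMap A Aₐ)
  let q := Ideal.Quotient.mk ((relIdeal a g k).map φ)
  have hq : q.comp φ = q.comp (elim a g k) := by
    refine MvPolynomial.ringHom_ext (fun c => ?_) (fun v => ?_)
    · simp [φ, elim]
    · rcases v with l | t
      · by_cases h : (l : ℕ) < k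
        · rw [RingHom.comp_apply, RingHom.comp_apply, ← sub_eq_zero, ← map_sub,
            Ideal.Quotient.eq_zero_iff_mem]
          have hmem := Ideal.mem_map_of_mem φ (Ideal.subset_span ⟨l, h, rfl⟩ :
            rel a g l ∈ relIdeal a g k)
          have := Ideal.mul_mem_left _ (C (IsLocalization.Away.invSelf (S := Aₐ) a)) hmem
          have he : φ (X (Sum.inl l)) - elim a g k (X (Sum.inl l)) =
              C (IsLocalization.Away.invSelf (S := Aₐ) a) * φ (rel a g l) := by
            simp [φ, rel, elim, h, MvPolynomial.map_rename]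
            linear_combination (-X (Sum.inl l)) * C_inv_mul (r := r) (τ := τ) a
          rw [he]
          exact this
        · simp [φ, elim, h]
      · simp [φ, elim]
  have hmem : φ p ∈ (relIdeal a g k).map φ := by
    rw [← Ideal.Quotient.eq_zero_iff_mem]
    exact (RingHom.congr_fun hq p).trans (by rw [RingHom.comp_apply, hp, map_zero])
  obtain ⟨m, hm, hm'⟩ := (IsLocalization.algebraMap_mem_map_algebraMap_iff
    ((Submonoid.powers a).map (C : A →+* MvPolynomial (Fin r ⊕ τ) A)) (MvPolynomial (Fin r ⊕ τ) Aₐ) _ _).1 hmem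
  obtain ⟨_, ⟨j, rfl⟩, rfl⟩ := hm
  exact ⟨j, by simpa [map_pow] using hm'⟩

theorem torsion_rel {k : ℕ} (hk : k < r) {p : MvPolynomial (Fin r ⊕ τ) A}
    (hp : rel a g ⟨k, hk⟩ * p ∈ relIdeal a g k) : ∃ m, C a ^ m * p ∈ relIdeal a g k := by
  classical
  refine exists_pow_mem_of_elim_eq_zero a g k ?_
  have h0 : elim a g k (rel a g ⟨k, hk⟩) * elim a g k p = 0 := by
    rw [← map_mul]; exact relIdeal_le_ker a g k hp
  rw [elim_rel, if_neg (lt_irrefl k)] at h0
  let G := rename (Sum.inr : τ → Fin r ⊕ τ) (MvPolynomial.map (algebraMap A Aₐ) (g ⟨k, hk⟩))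
  let c := C (σ := Fin r ⊕ τ) (IsLocalization.Away.invSelf (S := Aₐ) a)
  let ψ : MvPolynomial (Fin r ⊕ τ) Aₐ →ₐ[Aₐ] MvPolynomial (Fin r ⊕ τ) Aₐ :=
    aeval fun v => if v = Sum.inl ⟨k, hk⟩ then X v + c * G else X v
  let ψ' : MvPolynomial (Fin r ⊕ τ) Aₐ →ₐ[Aₐ] MvPolynomial (Fin r ⊕ τ) Aₐ :=
    aeval fun v => if v = Sum.inl ⟨k, hk⟩ then X v - c * G else X v
  have hG : ∀ f : (Fin r ⊕ τ) → MvPolynomial (Fin r ⊕ τ) Aₐ, (∀ t, f (Sum.inr t) = X (Sum.inr t)) →
      aeval f G = G := fun f hf => by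
    simp only [G, aeval_rename]
    rw [show f ∘ Sum.inr = fun t => X (Sum.inr t) from funext hf]
    exact AlgHom.congr_fun (algHom_ext (f := aeval fun t => X (Sum.inr t)) (g := rename Sum.inr) (by simp)) _
  have hG1 : ψ G = G := hG _ (by simp)
  have hG2 : ψ' G = G := hG _ (by simp)
  have hinv : ψ'.comp ψ = AlgHom.id _ _ := by
    refine algHom_ext fun v => ?_
    by_cases h : v = Sum.inl ⟨k, hk⟩
    · simp only [AlgHom.comp_apply, ψ, aeval_X, if_pos h, map_add, map_mul, hG2]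
      simp [ψ', h, c]
    · simp [ψ, ψ', h]
  have h1 := congrArg ψ h0
  have hC : ∀ z, ψ (C z) = C z := fun z => by simp [ψ]
  rw [map_mul, map_sub, map_mul, map_zero, hC] at h1
  have h2 : C (algebraMap A Aₐ a) * ψ (X (Sum.inl ⟨k, hk⟩)) - ψ G =
      C (algebraMap A Aₐ a) * X (Sum.inl ⟨k, hk⟩) := by
    simp only [ψ, aeval_X, if_pos rfl]
    rw [hG _ (by simp)]
    simp [mul_add, ← mul_assoc, c, C_inv_mul]
  rw [h2, mul_assoc] at h1
  have hunit : IsUnit (C (σ := Fin r ⊕ τ) (algebraMap A Aₐ a)) := IsUnit.of_mul_eq_one _ (C_inv_mul a)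
  have h3 : ψ (elim a g k p) = 0 := by
    have := hunit.mul_right_eq_zero.1 h1
    exact MvPolynomial.X_mul_cancel_left_iff.1 (this.trans (mul_zero _).symm)
  have := congrArg ψ' h3
  rwa [← AlgHom.comp_apply, hinv, map_zero] at this

open Groth.Agent.Lib.Tor.Annihilate

theorem exists_uniform {P : Type u} [CommRing P] [IsNoetherianRing P] [Algebra A P] (J K : Ideal P)
    (h : ∀ x ∈ K, ∃ m, algebraMap A P a ^ m * x ∈ J) : ∃ N, ∀ x ∈ K, algebraMap A P a ^ N * x ∈ J := by
  obtain ⟨S, hS⟩ := (isNoetherianRing_iff_ideal_fg P).1 ‹_› K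
  choose! m hm using h
  refine ⟨S.sup m, fun x hx => ?_⟩
  rw [← hS] at hx
  induction hx using Submodule.span_induction with
  | mem y hy =>
    obtain ⟨d, hd⟩ := Nat.exists_eq_add_of_le (Finset.le_sup (f := m) hy)
    rw [hd, add_comm, pow_add, mul_assoc]
    exact J.mul_mem_left _ (hm y (hS ▸ Submodule.subset_span hy))
  | zero => simp
  | add y z _ _ hy hz => rw [mul_add]; exact J.add_mem hy hz
  | smul c y _ hy => rw [smul_eq_mul, mul_left_comm]; exact J.mul_mem_left _ hy

omit [Finite τ] [IsNoetherianRing A] in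
theorem smul_mk (N : ℕ) (J : Ideal (MvPolynomial (Fin r ⊕ τ) A)) (x : MvPolynomial (Fin r ⊕ τ) A) :
    a ^ N • Ideal.Quotient.mk J x = Ideal.Quotient.mk J (C a ^ N * x) := by
  rw [← Ideal.Quotient.mkₐ_eq_mk A, ← map_smul, Algebra.smul_def, map_pow, MvPolynomial.algebraMap_eq]

theorem kills_quotient : ∀ k, k ≤ r →
    ∃ c, Kills (a ^ c) k (MvPolynomial (Fin r ⊕ τ) A ⧸ relIdeal a g k) := by
  intro k
  induction k with
  | zero =>
    intro _
    have h0 : relIdeal a g 0 = ⊥ := by simp [relIdeal]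
    refine ⟨0, ?_⟩
    rw [pow_zero, h0]
    let e := (RingEquiv.quotientBot (MvPolynomial (Fin r ⊕ τ) A))
    have : Module.Flat A (MvPolynomial (Fin r ⊕ τ) A ⧸ (⊥ : Ideal (MvPolynomial (Fin r ⊕ τ) A))) :=
      Module.Flat.of_linearEquiv (AlgEquiv.quotientBot A (MvPolynomial (Fin r ⊕ τ) A)).toLinearEquiv
    exact kills_one_of_flat
  | succ k ih =>
    intro hk
    obtain ⟨c, hc⟩ := ih (by omega)
    let P := MvPolynomial (Fin r ⊕ τ) A
    let J := relIdeal a g k
    let J' := relIdeal a g (k + 1)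
    let f : P := rel a g ⟨k, hk⟩
    have hJJ : J ≤ J' := Ideal.span_mono (Set.image_mono fun l (hl : (l : ℕ) < k) => Nat.lt_succ_of_lt hl)
    have hfJ' : f ∈ J' := Ideal.subset_span ⟨⟨k, hk⟩, Nat.lt_succ_self k, rfl⟩
    have hJ' : J' ≤ J ⊔ Ideal.span {f} := by
      change relIdeal a g (k + 1) ≤ _
      rw [relIdeal, Ideal.span_le]
      rintro _ ⟨l, hl, rfl⟩
      rcases Nat.lt_succ_iff_lt_or_eq.1 (show (l : ℕ) < k + 1 from hl) with h | h
      · exact Ideal.mem_sup_left (Ideal.subset_span ⟨l, h, rfl⟩)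
      · obtain rfl : l = ⟨k, hk⟩ := Fin.ext h
        exact Ideal.mem_sup_right (Ideal.subset_span rfl)
    obtain ⟨N, hN⟩ := exists_uniform a J (Submodule.comap (LinearMap.mulLeft P f) J)
      (fun x hx => torsion_rel a g hk hx)
    let m : (P ⧸ J) →ₗ[A] (P ⧸ J) := LinearMap.mulLeft A (Ideal.Quotient.mk J f)
    have hker : ∀ x, m x = 0 → a ^ N • x = 0 := by
      intro x hx
      obtain ⟨x, rfl⟩ := Ideal.Quotient.mk_surjective x
      have hx' : f * x ∈ J := Ideal.Quotient.eq_zero_iff_mem.1 (by simpa [m] using hx)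
      exact (smul_mk a N J x).trans (Ideal.Quotient.eq_zero_iff_mem.2 (hN x hx'))
    have hY : Kills (a ^ c * a ^ N) k (LinearMap.range m) := by
      let h' : LinearMap.range m →ₗ[A] (P ⧸ J) :=
        (LinearMap.ker m).liftQ (a ^ N • LinearMap.id) (fun x hx => LinearMap.mem_ker.2 (hker x hx)) ∘ₗ
          m.quotKerEquivRange.symm.toLinearMap
      refine hc.factor h' m.rangeRestrict (a ^ N) fun y => ?_
      obtain ⟨_, ⟨x, rfl⟩⟩ := y
      have : m.quotKerEquivRange.symm ⟨m x, ⟨x, rfl⟩⟩ = Submodule.Quotient.mk x :=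
        m.quotKerEquivRange_symm_apply_image x _
      simp only [h', LinearMap.comp_apply, LinearEquiv.coe_coe, this]
      exact Subtype.ext (by simp)
    refine ⟨c + (c + N), ?_⟩
    rw [pow_add, pow_add]
    refine hY.coker hc (LinearMap.range m).subtype (Ideal.Quotient.factorₐ A hJJ).toLinearMap
      Subtype.val_injective (Ideal.Quotient.factor_surjective hJJ) fun y => ⟨fun hy => ?_, ?_⟩
    · obtain ⟨y, rfl⟩ := Ideal.Quotient.mk_surjective y
      obtain ⟨u, hu, v, hv, rfl⟩ := Submodule.mem_sup.1 (hJ' (Ideal.Quotient.eq_zero_iff_mem.1 hy))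
      obtain ⟨w, rfl⟩ := Ideal.mem_span_singleton'.1 hv
      refine ⟨⟨_, ⟨Ideal.Quotient.mk J w, rfl⟩⟩, ?_⟩
      change Ideal.Quotient.mk J f * Ideal.Quotient.mk J w = Ideal.Quotient.mk J (u + w * f)
      rw [map_add, Ideal.Quotient.eq_zero_iff_mem.2 hu, zero_add, map_mul, mul_comm]
    · rintro ⟨⟨_, ⟨x, rfl⟩⟩, rfl⟩
      obtain ⟨x, rfl⟩ := Ideal.Quotient.mk_surjective x
      exact Ideal.Quotient.eq_zero_iff_mem.2 (Ideal.mul_mem_right _ _ hfJ')

/-- The main bound: a quotient agreeing with the chart after inverting `a`. -/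
theorem kills_of_surjective {B : Type u} [CommRing B] [Algebra A B]
    (π : MvPolynomial (Fin r ⊕ τ) A →ₐ[A] B) (hπ : Function.Surjective π)
    (hrel : ∀ l, π (rel a g l) = 0) (hker : ∀ p, π p = 0 → elim a g r p = 0) :
    ∃ c, Kills (a ^ c) r B := by
  obtain ⟨c, hc⟩ := kills_quotient a g r le_rfl
  obtain ⟨N, hN⟩ := exists_uniform a (relIdeal a g r) (RingHom.ker π.toRingHom)
    (fun x hx => exists_pow_mem_of_elim_eq_zero a g r (hker x hx))
  have hle : relIdeal a g r ≤ RingHom.ker π.toRingHom := by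
    rw [relIdeal, Ideal.span_le]
    rintro _ ⟨l, -, rfl⟩
    exact hrel l
  let J := relIdeal a g r
  let F : (MvPolynomial (Fin r ⊕ τ) A ⧸ J) →ₗ[A] B :=
    (Ideal.Quotient.liftₐ J π fun x hx => hle hx).toLinearMap
  let L := a ^ N • (Ideal.Quotient.mkₐ A J).toLinearMap
  let h' : B →ₗ[A] (MvPolynomial (Fin r ⊕ τ) A ⧸ J) :=
    (LinearMap.ker π.toLinearMap).liftQ L (fun x hx => by
      exact (smul_mk a N J x).trans (Ideal.Quotient.eq_zero_iff_mem.2 (hN x hx))) ∘ₗ
      (π.toLinearMap.quotKerEquivOfSurjective hπ).symm.toLinearMap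
  refine ⟨c + N, ?_⟩
  rw [pow_add]
  refine hc.factor h' F (a ^ N) fun b => ?_
  obtain ⟨x, rfl⟩ := hπ b
  have : (π.toLinearMap.quotKerEquivOfSurjective hπ).symm (π x) = Submodule.Quotient.mk x := by
    rw [LinearEquiv.symm_apply_eq]; rfl
  simp only [h', LinearMap.comp_apply, LinearEquiv.coe_coe, this]
  simp [L, F]

end Groth.Agent.Lib.Tor.Chart
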