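import Mathlib.CategoryTheory.Abelian.LeftDerived
import Mathlib.Algebra.Homology.HomologySequenceLemmas
import Mathlib.Algebra.Homology.ShortComplex.ShortExact
import Mathlib.CategoryTheory.Abelian.Exact

/-!
# Left derived functors computed by exact functors to complexes

If `E : C ⥤ ChainComplex D ℕ` sends short exact sequences to short exact sequences, has vanishing
positive homology on projective objects and `H₀ ∘ E ≅ T` with `T` right exact, then
`H_n ∘ E ≅ T.leftDerived n` naturally (`leftDerivedIso`).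
-/

universe v u v' u'

namespace Groth.Agent.Lib.Tor.DimShift

open CategoryTheory CategoryTheory.Limits

variable {C : Type u} [Category.{v} C] [Abelian C] {D : Type u'} [Category.{v'} D] [Abelian D]

/-- The hypotheses on a functor `E` to chain complexes making it compute `T.leftDerived`. -/
structure Computing (T : C ⥤ D) (E : C ⥤ ChainComplex D ℕ) [E.PreservesZeroMorphisms] where
  shortExact : ∀ (S : ShortComplex C), S.ShortExact → (S.map E).ShortExact
  acyclic : ∀ (X : C), Projective X → ∀ n : ℕ, IsZero ((E.obj X).homology (n + 1))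
  zero : E ⋙ HomologicalComplex.homologyFunctor D (ComplexShape.down ℕ) 0 ≅ T

variable {T : C ⥤ D} {E : C ⥤ ChainComplex D ℕ} [E.PreservesZeroMorphisms]

/-- The sequence `opcycles (k+1) → Q k → opcycles k`. -/
noncomputable def opSC (Q : ChainComplex C ℕ) (k : ℕ) : ShortComplex C :=
  ShortComplex.mk (Q.fromOpcycles (k + 1) k) (Q.pOpcycles k) (by
    rw [← cancel_epi (Q.pOpcycles (k + 1))]; simp)

/-- The functoriality of `opSC`. -/
noncomputable def opSCMap {Q Q' : ChainComplex C ℕ} (φ : Q ⟶ Q') (k : ℕ) :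
    opSC Q k ⟶ opSC Q' k where
  τ₁ := HomologicalComplex.opcyclesMap φ (k + 1)
  τ₂ := φ.f k
  τ₃ := HomologicalComplex.opcyclesMap φ k
  comm₁₂ := by
    dsimp [opSC]
    rw [← cancel_epi (Q.pOpcycles (k + 1))]; simp
  comm₂₃ := by dsimp [opSC]; simp

lemma opSC_shortExact (Q : ChainComplex C ℕ) (k : ℕ) (hQ : Q.ExactAt (k + 1)) :
    (opSC Q k).ShortExact := by
  have hmono : Mono (Q.fromOpcycles (k + 1) k) := by
    have h0 : IsZero (Q.homology (k + 1)) := hQ.isZero_homology
    exact Preadditive.mono_of_isZero_kernel' _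
      (Q.homologyIsKernel (k + 1) k (by simp)) h0
  have hexact : (opSC Q k).Exact := by
    have hc := Q.opcyclesIsCokernel (k + 1) k (by simp)
    have h := ShortComplex.exact_of_g_is_cokernel
      (ShortComplex.mk (Q.d (k + 1) k) (Q.pOpcycles k) (by simp)) hc
    let φ : ShortComplex.mk (Q.d (k + 1) k) (Q.pOpcycles k) (by simp) ⟶ opSC Q k :=
      { τ₁ := Q.pOpcycles (k + 1)
        τ₂ := 𝟙 _
        τ₃ := 𝟙 _
        comm₁₂ := by simp [opSC]
        comm₂₃ := by simp [opSC] }
    have : Epi φ.τ₁ := inferInstanceAs (Epi (Q.pOpcycles (k + 1)))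
    have : IsIso φ.τ₂ := inferInstanceAs (IsIso (𝟙 _))
    have : Mono φ.τ₃ := inferInstanceAs (Mono (𝟙 _))
    exact (ShortComplex.exact_iff_of_epi_of_isIso_of_mono φ).1 h
  exact ShortComplex.ShortExact.mk' hexact hmono (by dsimp [opSC]; infer_instance)

variable (c : Computing T E)

/-- A resolution: projective terms, exact in positive degrees. -/
structure IsRes (Q : ChainComplex C ℕ) : Prop where
  projective : ∀ n, Projective (Q.X n)
  exact : ∀ n, Q.ExactAt (n + 1)

lemma IsRes.shortExact_map (c : Computing T E) {Q : ChainComplex C ℕ} (hQ : IsRes Q) (k : ℕ) :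
    ((opSC Q k).map E).ShortExact :=
  c.shortExact _ (opSC_shortExact Q k (hQ.exact k))

/-- The connecting map `H_{m+1}(E C_k) → H_m(E C_{k+1})`. -/
noncomputable def dlt (c : Computing T E) {Q : ChainComplex C ℕ} (hQ : IsRes Q) (k m : ℕ) :
    (E.obj (Q.opcycles k)).homology (m + 1) ⟶ (E.obj (Q.opcycles (k + 1))).homology m :=
  (hQ.shortExact_map c k).δ (m + 1) m (by simp)

lemma dlt_comp {Q : ChainComplex C ℕ} (hQ : IsRes Q) (k m : ℕ) :
    dlt c hQ k m ≫ HomologicalComplex.homologyMap (E.map (Q.fromOpcycles (k + 1) k)) m = 0 :=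
  (hQ.shortExact_map c k).δ_comp (m + 1) m (by simp)

lemma dlt_mono {Q : ChainComplex C ℕ} (hQ : IsRes Q) (k m : ℕ) : Mono (dlt c hQ k m) :=
  (hQ.shortExact_map c k).mono_δ (m + 1) m (by simp) (c.acyclic _ (hQ.projective k) m)

lemma dlt_exact {Q : ChainComplex C ℕ} (hQ : IsRes Q) (k m : ℕ) :
    (ShortComplex.mk _ _ (dlt_comp c hQ k m)).Exact :=
  (hQ.shortExact_map c k).homology_exact₁ (m + 1) m (by simp)

lemma dlt_isIso {Q : ChainComplex C ℕ} (hQ : IsRes Q) (k m : ℕ) :
    IsIso (dlt c hQ k (m + 1)) :=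
  (hQ.shortExact_map c k).isIso_δ (m + 1 + 1) (m + 1) (by simp)
    (c.acyclic _ (hQ.projective k) (m + 1)) (c.acyclic _ (hQ.projective k) m)

lemma dlt_naturality {Q Q' : ChainComplex C ℕ} (hQ : IsRes Q) (hQ' : IsRes Q') (φ : Q ⟶ Q')
    (k m : ℕ) :
    HomologicalComplex.homologyMap (E.map (HomologicalComplex.opcyclesMap φ k)) (m + 1) ≫
        dlt c hQ' k m =
      dlt c hQ k m ≫
        HomologicalComplex.homologyMap (E.map (HomologicalComplex.opcyclesMap φ (k + 1))) m :=
  (HomologicalComplex.HomologySequence.δ_naturality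
    ((E.mapShortComplex).map (opSCMap φ k)) (hQ.shortExact_map c k) (hQ'.shortExact_map c k)
    (m + 1) m (by simp)).symm

/-- The degree zero comparison, with its naive type. -/
noncomputable def z0 (X : C) : (E.obj X).homology 0 ≅ T.obj X := c.zero.app X

lemma z0_naturality {X Y : C} (f : X ⟶ Y) :
    HomologicalComplex.homologyMap (E.map f) 0 ≫ (z0 c Y).hom = (z0 c X).hom ≫ T.map f :=
  c.zero.hom.naturality f

/-- The iterated connecting map `H_{m+1}(E C_k) → T C_{k+m+1}`. -/
noncomputable def iterDelta {Q : ChainComplex C ℕ} (hQ : IsRes Q) :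
    ∀ (m k j : ℕ), k + m + 1 = j →
      ((E.obj (Q.opcycles k)).homology (m + 1) ⟶ T.obj (Q.opcycles j))
  | 0, k, j, h => dlt c hQ k 0 ≫ (z0 c (Q.opcycles (k + 1))).hom ≫ eqToHom (by rw [← h])
  | m + 1, k, j, h => dlt c hQ k (m + 1) ≫ iterDelta hQ m (k + 1) j (by omega)

lemma iterDelta_exact {Q : ChainComplex C ℕ} (hQ : IsRes Q) :
    ∀ (m k i : ℕ) (h : k + m + 1 = i + 1),
      ∃ w : iterDelta c hQ m k (i + 1) h ≫ T.map (Q.fromOpcycles (i + 1) i) = 0,
        Mono (iterDelta c hQ m k (i + 1) h) ∧ (ShortComplex.mk _ _ w).Exact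
  | 0, k, i, h => by
      obtain rfl : k = i := by omega
      have hnat : HomologicalComplex.homologyMap (E.map (Q.fromOpcycles (k + 1) k)) 0 ≫
          (z0 c (Q.X k)).hom =
          (z0 c (Q.opcycles (k + 1))).hom ≫ T.map (Q.fromOpcycles (k + 1) k) :=
        z0_naturality c (Q.fromOpcycles (k + 1) k)
      have heq : iterDelta c hQ 0 k (k + 1) h =
          dlt c hQ k 0 ≫ (z0 c (Q.opcycles (k + 1))).hom := by
        simp [iterDelta]
      refine ⟨?_, ?_, ?_⟩
      · rw [heq, Category.assoc, ← hnat, ← Category.assoc, dlt_comp, zero_comp]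
      · rw [heq]
        exact mono_comp' (dlt_mono c hQ k 0) inferInstance
      · refine (ShortComplex.exact_iff_of_iso ?_).1 (dlt_exact c hQ k 0)
        exact ShortComplex.isoMk (Iso.refl _) (z0 c (Q.opcycles (k + 1)))
          (z0 c (Q.X k))
          (by dsimp; rw [heq]; exact Category.id_comp _) (by exact hnat.symm)
  | m + 1, k, i, h => by
      obtain ⟨w, hm, he⟩ := iterDelta_exact hQ m (k + 1) i (by omega)
      have := dlt_isIso c hQ k m
      have heq : iterDelta c hQ (m + 1) k (i + 1) h =
          dlt c hQ k (m + 1) ≫ iterDelta c hQ m (k + 1) (i + 1) (by omega) := rfl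
      refine ⟨?_, ?_, ?_⟩
      · rw [heq, Category.assoc, w, comp_zero]
      · rw [heq]
        infer_instance
      · refine (ShortComplex.exact_iff_of_iso ?_).2 he
        exact ShortComplex.isoMk (asIso (dlt c hQ k (m + 1))) (Iso.refl _)
          (Iso.refl _) (by dsimp; rw [heq]; exact (Category.comp_id _).symm) (by simp)

lemma iterDelta_naturality {Q Q' : ChainComplex C ℕ} (hQ : IsRes Q) (hQ' : IsRes Q')
    (φ : Q ⟶ Q') : ∀ (m k j : ℕ) (h : k + m + 1 = j),
      HomologicalComplex.homologyMap (E.map (HomologicalComplex.opcyclesMap φ k)) (m + 1) ≫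
          iterDelta c hQ' m k j h =
        iterDelta c hQ m k j h ≫ T.map (HomologicalComplex.opcyclesMap φ j)
  | 0, k, j, h => by
      subst h
      simp only [iterDelta, eqToHom_refl, Category.comp_id, Category.assoc]
      rw [← Category.assoc, dlt_naturality c hQ hQ' φ k 0, Category.assoc]
      rw [z0_naturality]
  | m + 1, k, j, h => by
      simp only [iterDelta, Category.assoc]
      rw [← Category.assoc, dlt_naturality c hQ hQ' φ k (m + 1), Category.assoc,
        iterDelta_naturality hQ hQ' φ m (k + 1) j (by omega)]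

section

variable (T) [T.Additive]

/-- The comparison `opcycles (T Q) → T (opcycles Q)`. -/
noncomputable def opComp (Q : ChainComplex C ℕ) (j : ℕ) :
    ((T.mapHomologicalComplex _).obj Q).opcycles j ⟶ T.obj (Q.opcycles j) :=
  ((T.mapHomologicalComplex _).obj Q).descOpcycles (T.map (Q.pOpcycles j)) (j + 1) (by simp)
    (by
      change T.map (Q.d (j + 1) j) ≫ T.map (Q.pOpcycles j) = 0
      rw [← T.map_comp]; simp)

@[reassoc]
lemma pOpcycles_opComp (Q : ChainComplex C ℕ) (j : ℕ) :
    ((T.mapHomologicalComplex _).obj Q).pOpcycles j ≫ opComp T Q j = T.map (Q.pOpcycles j) := by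
  exact HomologicalComplex.p_descOpcycles _ _ _ _ _

lemma isIso_opComp [PreservesFiniteColimits T] (Q : ChainComplex C ℕ) (j : ℕ) :
    IsIso (opComp T Q j) := by
  let TQ := (T.mapHomologicalComplex (ComplexShape.down ℕ)).obj Q
  have h1 := TQ.opcyclesIsCokernel (j + 1) j (by simp)
  have h2 := CokernelCofork.mapIsColimit _ (Q.opcyclesIsCokernel (j + 1) j (by simp)) T
  have : opComp T Q j = (h1.coconePointUniqueUpToIso h2).hom := by
    refine (cancel_epi (((T.mapHomologicalComplex (ComplexShape.down ℕ)).obj Q).pOpcycles j)).1 ?_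
    rw [pOpcycles_opComp]
    exact (h1.comp_coconePointUniqueUpToIso_hom h2 WalkingParallelPair.one).symm
  rw [this]
  exact (h1.coconePointUniqueUpToIso h2).isIso_hom

lemma opComp_naturality {Q Q' : ChainComplex C ℕ} (φ : Q ⟶ Q') (j : ℕ) :
    HomologicalComplex.opcyclesMap ((T.mapHomologicalComplex _).map φ) j ≫ opComp T Q' j =
      opComp T Q j ≫ T.map (HomologicalComplex.opcyclesMap φ j) := by
  rw [← cancel_epi (((T.mapHomologicalComplex _).obj Q).pOpcycles j),
    HomologicalComplex.p_opcyclesMap_assoc, pOpcycles_opComp, pOpcycles_opComp_assoc]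
  exact ((T.map_comp _ _).symm.trans
    (congrArg T.map (HomologicalComplex.p_opcyclesMap φ j).symm)).trans (T.map_comp _ _)

/-- The map `H_j(T Q) → T (opcycles Q)`. -/
noncomputable def homComp (Q : ChainComplex C ℕ) (j : ℕ) :
    ((T.mapHomologicalComplex _).obj Q).homology j ⟶ T.obj (Q.opcycles j) :=
  ((T.mapHomologicalComplex _).obj Q).homologyι j ≫ opComp T Q j

lemma homComp_exact [PreservesFiniteColimits T] (Q : ChainComplex C ℕ) (i : ℕ) :
    ∃ w : homComp T Q (i + 1) ≫ T.map (Q.fromOpcycles (i + 1) i) = 0,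
      Mono (homComp T Q (i + 1)) ∧ (ShortComplex.mk _ _ w).Exact := by
  have := isIso_opComp T Q (i + 1)
  let TQ := (T.mapHomologicalComplex (ComplexShape.down ℕ)).obj Q
  have hf : opComp T Q (i + 1) ≫ T.map (Q.fromOpcycles (i + 1) i) =
      TQ.fromOpcycles (i + 1) i := by
    refine (cancel_epi (((T.mapHomologicalComplex (ComplexShape.down ℕ)).obj Q).pOpcycles (i + 1))).1 ?_
    rw [pOpcycles_opComp_assoc]
    refine ((T.map_comp _ _).symm.trans (congrArg T.map (HomologicalComplex.p_fromOpcycles _ _ _))).trans ?_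
    exact (((T.mapHomologicalComplex (ComplexShape.down ℕ)).obj Q).p_fromOpcycles (i + 1) i).symm
  have w : homComp T Q (i + 1) ≫ T.map (Q.fromOpcycles (i + 1) i) = 0 := by
    rw [homComp, Category.assoc, hf]; exact TQ.homologyι_comp_fromOpcycles _ _
  refine ⟨w, ?_, ?_⟩
  · exact mono_comp' inferInstance inferInstance
  · refine (ShortComplex.exact_iff_of_iso ?_).1
      (ShortComplex.exact_of_f_is_kernel
        (ShortComplex.mk (TQ.homologyι (i + 1)) (TQ.fromOpcycles (i + 1) i) (by simp))
        (TQ.homologyIsKernel (i + 1) i (by simp)))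
    exact ShortComplex.isoMk (Iso.refl _) (asIso (opComp T Q (i + 1))) (Iso.refl _)
      (by dsimp; rw [homComp]; exact Category.id_comp _) (by dsimp; rw [hf]; exact (Category.comp_id _).symm)

lemma homComp_naturality {Q Q' : ChainComplex C ℕ} (φ : Q ⟶ Q') (j : ℕ) :
    HomologicalComplex.homologyMap ((T.mapHomologicalComplex _).map φ) j ≫ homComp T Q' j =
      homComp T Q j ≫ T.map (HomologicalComplex.opcyclesMap φ j) := by
  rw [homComp, homComp, HomologicalComplex.homologyι_naturality_assoc, opComp_naturality,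
    Category.assoc]

variable {T} [PreservesFiniteColimits T]

/-- The comparison `H_{i+1}(E C₀) ≅ H_{i+1}(T Q)`. -/
noncomputable def resIso {Q : ChainComplex C ℕ} (hQ : IsRes Q) (i : ℕ) :
    (E.obj (Q.opcycles 0)).homology (i + 1) ≅
      ((T.mapHomologicalComplex _).obj Q).homology (i + 1) :=
  have := (iterDelta_exact c hQ i 0 i (congrArg (· + 1) (Nat.zero_add i))).snd.1
  have := (homComp_exact T Q i).snd.1
  IsLimit.conePointUniqueUpToIso ((iterDelta_exact c hQ i 0 i (congrArg (· + 1) (Nat.zero_add i))).snd.2.fIsKernel)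
    ((homComp_exact T Q i).snd.2.fIsKernel)

lemma resIso_hom_comp {Q : ChainComplex C ℕ} (hQ : IsRes Q) (i : ℕ) :
    (resIso c hQ i).hom ≫ homComp T Q (i + 1) = iterDelta c hQ i 0 (i + 1) (by omega) := by
  have := (iterDelta_exact c hQ i 0 i (congrArg (· + 1) (Nat.zero_add i))).snd.1
  have := (homComp_exact T Q i).snd.1
  exact IsLimit.conePointUniqueUpToIso_hom_comp
    ((iterDelta_exact c hQ i 0 i (congrArg (· + 1) (Nat.zero_add i))).snd.2.fIsKernel)
    ((homComp_exact T Q i).snd.2.fIsKernel) WalkingParallelPair.zero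

lemma resIso_naturality {Q Q' : ChainComplex C ℕ} (hQ : IsRes Q) (hQ' : IsRes Q')
    (φ : Q ⟶ Q') (i : ℕ) :
    HomologicalComplex.homologyMap (E.map (HomologicalComplex.opcyclesMap φ 0)) (i + 1) ≫
        (resIso c hQ' i).hom =
      (resIso c hQ i).hom ≫
        HomologicalComplex.homologyMap ((T.mapHomologicalComplex _).map φ) (i + 1) := by
  have := (homComp_exact T Q' i).snd.1
  rw [← cancel_mono (homComp T Q' (i + 1)), Category.assoc, Category.assoc, resIso_hom_comp,
    homComp_naturality, ← Category.assoc (resIso c hQ i).hom, resIso_hom_comp]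
  exact iterDelta_naturality c hQ hQ' φ i 0 (i + 1) (by omega)

lemma isRes_resolution {X : C} (P : ProjectiveResolution X) : IsRes P.complex :=
  ⟨P.projective, P.complex_exactAt_succ⟩

/-- The augmentation `opcycles₀ P ≅ X`. -/
noncomputable def augIso {X : C} (P : ProjectiveResolution X) : P.complex.opcycles 0 ≅ X :=
  IsColimit.coconePointUniqueUpToIso (P.complex.opcyclesIsCokernel 1 0 (by simp))
    P.isColimitCokernelCofork

lemma pOpcycles_augIso {X : C} (P : ProjectiveResolution X) :
    P.complex.pOpcycles 0 ≫ (augIso P).hom = P.π.f 0 :=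
  IsColimit.comp_coconePointUniqueUpToIso_hom (P.complex.opcyclesIsCokernel 1 0 (by simp))
    P.isColimitCokernelCofork WalkingParallelPair.one

lemma augIso_naturality {X Y : C} (f : X ⟶ Y) (P : ProjectiveResolution X)
    (Q : ProjectiveResolution Y) (φ : P.complex ⟶ Q.complex)
    (comm : φ.f 0 ≫ Q.π.f 0 = P.π.f 0 ≫ f) :
    (augIso P).inv ≫ HomologicalComplex.opcyclesMap φ 0 = f ≫ (augIso Q).inv := by
  rw [Iso.inv_comp_eq, ← Category.assoc, Iso.eq_comp_inv, ← cancel_epi (P.complex.pOpcycles 0),
    HomologicalComplex.p_opcyclesMap_assoc, pOpcycles_augIso, ← Category.assoc, pOpcycles_augIso]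
  exact comm

variable [HasProjectiveResolutions C]

/-- The component in a positive degree. -/
noncomputable def succIsoApp (i : ℕ) (X : C) :
    (E.obj X).homology (i + 1) ≅ (T.leftDerived (i + 1)).obj X :=
  (HomologicalComplex.homologyFunctor D _ (i + 1)).mapIso
      (E.mapIso (augIso (projectiveResolution X)).symm) ≪≫
    resIso c (isRes_resolution (projectiveResolution X)) i ≪≫
    ((projectiveResolution X).isoLeftDerivedObj T (i + 1)).symm

/-- The isomorphism in positive degrees. -/
noncomputable def succIso (i : ℕ) :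
    E ⋙ HomologicalComplex.homologyFunctor D (ComplexShape.down ℕ) (i + 1) ≅
      T.leftDerived (i + 1) :=
  NatIso.ofComponents (succIsoApp c i) (fun {X Y} f => by
    let φ := ProjectiveResolution.lift f (projectiveResolution X) (projectiveResolution Y)
    have comm : φ.f 0 ≫ (projectiveResolution Y).π.f 0 =
        (projectiveResolution X).π.f 0 ≫ f :=
      (HomologicalComplex.congr_hom (ProjectiveResolution.lift_commutes f _ _) 0).trans
        (congrArg (_ ≫ ·) (ChainComplex.single₀_map_f_zero f))
    have h1 := congrArg (fun g => HomologicalComplex.homologyMap (E.map g) (i + 1))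
      (augIso_naturality f _ _ φ comm)
    simp only [Functor.map_comp, HomologicalComplex.homologyMap_comp] at h1
    have h2 := resIso_naturality c (isRes_resolution (projectiveResolution X))
      (isRes_resolution (projectiveResolution Y)) φ i
    have h3 := ProjectiveResolution.isoLeftDerivedObj_inv_naturality f _ _ φ comm T (i + 1)
    change HomologicalComplex.homologyMap (E.map f) (i + 1) ≫
        (HomologicalComplex.homologyMap (E.map (augIso (projectiveResolution Y)).inv) (i + 1) ≫
          (resIso c (isRes_resolution (projectiveResolution Y)) i).hom ≫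
          ((projectiveResolution Y).isoLeftDerivedObj T (i + 1)).inv) =
      (HomologicalComplex.homologyMap (E.map (augIso (projectiveResolution X)).inv) (i + 1) ≫
          (resIso c (isRes_resolution (projectiveResolution X)) i).hom ≫
          ((projectiveResolution X).isoLeftDerivedObj T (i + 1)).inv) ≫ (T.leftDerived (i + 1)).map f
    rw [← reassoc_of% h1]
    simp only [Category.assoc]
    refine congrArg (_ ≫ ·) ?_
    refine ((Category.assoc _ _ _).symm.trans ((congrArg (· ≫ _) h2).trans (Category.assoc _ _ _))).trans ?_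
    exact congrArg ((resIso c _ i).hom ≫ ·) h3.symm)

/-- `E` computes the left derived functors of `T`. -/
noncomputable def leftDerivedIso : ∀ n : ℕ,
    E ⋙ HomologicalComplex.homologyFunctor D (ComplexShape.down ℕ) n ≅ T.leftDerived n
  | 0 => c.zero ≪≫ T.leftDerivedZeroIsoSelf.symm
  | i + 1 => succIso c i

end

end Groth.Agent.Lib.Tor.DimShift
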