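import Groth.Agent.Lib.Tor.FlatOfTorsion
import Groth.Agent.H25.TorLES
import Groth.Agent.Lib.Tor.Annihilate
import Mathlib.RingTheory.Regular.RegularSequence
import Mathlib.RingTheory.Nakayama
import Mathlib.RingTheory.QuotSMulTop

/-!
# Regular sequences and vanishing of Tor
-/

universe u

open CategoryTheory CategoryTheory.Limits TensorProduct RingTheory.Sequence
open Groth.Agent.Lib.Tor.FlatOfTorsion (Z dd)
open scoped Pointwise

namespace Groth.Agent.Lib.Tor.RegularTor

variable {A : Type u} [CommRing A] {B : ModuleCat.{u} A} (Q : ProjectiveResolution B)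

theorem Z_congr {N N' : Type u} [AddCommGroup N] [Module A N] [AddCommGroup N'] [Module A N']
    {i : ℕ} (e : N ≃ₗ[A] N') (h : Z Q.complex i N) : Z Q.complex i N' := fun z hz => by
  obtain ⟨w, hw⟩ := h (LinearMap.lTensor _ e.symm.toLinearMap z) (by rw [FlatOfTorsion.comm, hz, map_zero])
  refine ⟨LinearMap.lTensor _ e.toLinearMap w, ?_⟩
  rw [FlatOfTorsion.comm, hw, ← LinearMap.comp_apply, ← LinearMap.lTensor_comp]
  simp

section Step

variable {N : Type u} [AddCommGroup N] [Module A N] (r : A) (hr : IsSMulRegular N r)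

private theorem exact_mk :
    Function.Exact (r • (LinearMap.id : N →ₗ[A] N)) (r • (⊤ : Submodule A N)).mkQ := by
  intro y
  rw [Submodule.mkQ_apply, Submodule.Quotient.mk_eq_zero, Submodule.mem_smul_pointwise_iff_exists]
  exact ⟨fun ⟨z, _, hz⟩ => ⟨z, hz⟩, fun ⟨z, hz⟩ => ⟨z, Submodule.mem_top, hz⟩⟩

theorem lTensor_smul_id (X : Type u) [AddCommGroup X] [Module A X] (y : X ⊗[A] N) :
    LinearMap.lTensor X (r • (LinearMap.id : N →ₗ[A] N)) y = r • y := by
  rw [LinearMap.lTensor_smul, LinearMap.lTensor_id]; rfl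

include hr in
theorem z_quotient (h : ∀ i, Z Q.complex i N) (hB : IsSMulRegular ((B : Type u) ⊗[A] N) r) :
    ∀ i, Z Q.complex i (QuotSMulTop r N) := by
  have hf : ∀ j, Module.Flat A (Q.complex.X j) := fun j => Balance.flat_of_projective _
  have hinj : Function.Injective (r • (LinearMap.id : N →ₗ[A] N)) := hr
  intro i
  cases i with
  | succ i =>
    exact Z.right hf _ _ hinj (exact_mk r) (Submodule.mkQ_surjective _) (h (i + 1)) (h i)
  | zero =>
    intro z hz
    obtain ⟨u, rfl⟩ := LinearMap.lTensor_surjective _ (Submodule.mkQ_surjective (r • (⊤ : Submodule A N))) z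
    obtain ⟨y, hy⟩ := (lTensor_exact (Q.complex.X 0) (exact_mk r) (Submodule.mkQ_surjective _)
      (LinearMap.rTensor N (Q.complex.d 1 0).hom u)).1 (by rw [← FlatOfTorsion.comm]; exact hz)
    rw [lTensor_smul_id] at hy
    let ε₀ : Q.complex.X 0 →ₗ[A] B := (Q.π.f 0).hom
    have hεs : Function.Surjective ε₀ := (ModuleCat.epi_iff_surjective (Q.π.f 0)).1 inferInstance
    have hεe : Function.Exact (Q.complex.d 1 0).hom ε₀ :=
      LinearMap.exact_iff.2 ((ShortComplex.moduleCat_exact_iff_range_eq_ker _).1 (Balance.resolution_exact_zero Q)).symm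
    have hE := rTensor_exact (M := Q.complex.X 1) (N := Q.complex.X 0) N hεe hεs
    have h0 : LinearMap.rTensor N ε₀ y = 0 := hB (by
      simp only [smul_zero]
      rw [← map_smul, hy, hE.apply_apply_eq_zero])
    obtain ⟨v, hv⟩ := (hE y).1 h0
    obtain ⟨w, hw⟩ := h 0 (u - r • v) (by rw [map_sub, map_smul, hv, hy, sub_self])
    refine ⟨LinearMap.lTensor _ (r • (⊤ : Submodule A N)).mkQ w, ?_⟩
    rw [FlatOfTorsion.comm, hw, map_sub, ← lTensor_smul_id r _ v,
      (lTensor_exact (Q.complex.X 1) (exact_mk r) (Submodule.mkQ_surjective _)).apply_apply_eq_zero, sub_zero]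

include hr in
theorem regular_of_z_quotient (h : Z Q.complex 0 (QuotSMulTop r N)) :
    IsSMulRegular ((B : Type u) ⊗[A] N) r := by
  rw [isSMulRegular_iff_right_eq_zero_of_smul]
  intro ybar hy
  let ε₀ : Q.complex.X 0 →ₗ[A] B := (Q.π.f 0).hom
  have hεs : Function.Surjective ε₀ := (ModuleCat.epi_iff_surjective (Q.π.f 0)).1 inferInstance
  have hεe : Function.Exact (Q.complex.d 1 0).hom ε₀ :=
    LinearMap.exact_iff.2 ((ShortComplex.moduleCat_exact_iff_range_eq_ker _).1 (Balance.resolution_exact_zero Q)).symm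
  have hE := rTensor_exact (M := Q.complex.X 1) (N := Q.complex.X 0) N hεe hεs
  obtain ⟨y, rfl⟩ := LinearMap.rTensor_surjective N hεs ybar
  obtain ⟨u, hu⟩ := (hE (r • y)).1 (by rw [map_smul, hy])
  have hex := exact_mk (N := N) r
  have hs : Function.Surjective (r • (⊤ : Submodule A N)).mkQ := Submodule.mkQ_surjective _
  obtain ⟨w, hw⟩ := h (LinearMap.lTensor _ (r • (⊤ : Submodule A N)).mkQ u) (by
    rw [FlatOfTorsion.comm, hu, ← lTensor_smul_id r _ y, (lTensor_exact (Q.complex.X 0) hex hs).apply_apply_eq_zero])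
  obtain ⟨w', rfl⟩ := LinearMap.lTensor_surjective _ hs w
  obtain ⟨v, hv⟩ := (lTensor_exact (Q.complex.X 1) hex hs
    (u - LinearMap.rTensor N (Q.complex.d 2 1).hom w')).1 (by rw [map_sub, ← FlatOfTorsion.comm, hw, sub_self])
  have := Balance.flat_of_projective (Q.complex.X 0)
  have hinj : Function.Injective (r • (LinearMap.id : N →ₗ[A] N)) := hr
  have hy' : y = LinearMap.rTensor N (Q.complex.d 1 0).hom v :=
    Module.Flat.lTensor_preserves_injective_linearMap (M := Q.complex.X 0) _ hinj (by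
      rw [lTensor_smul_id, lTensor_smul_id, ← map_smul, ← lTensor_smul_id r _ v, hv, map_sub, hu, dd, sub_zero])
  rw [hy', hE.apply_apply_eq_zero]

variable [IsNoetherianRing A] [IsLocalRing A] [Module.Finite A B]

include hr in
theorem z_of_z_quotient (hrm : r ∈ IsLocalRing.maximalIdeal A) [Module.Finite A N]
    (h : ∀ i, Z Q.complex i (QuotSMulTop r N)) : ∀ i, Z Q.complex i N := by
  intro i
  refine FlatOfTorsion.z_of_isZero_tor B Q i (ModuleCat.of A N) ?_
  let T := (CategoryTheory.Tor (ModuleCat.{u} A) (i + 1)).obj B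
  let K := ((MonoidalCategory.tensorRight (ModuleCat.of A N)).mapHomologicalComplex
    (ComplexShape.down ℕ)).obj Q.complex
  refine IsZero.of_iso ?_ (Balance.torObjIso Q (ModuleCat.of A N) (i + 1))
  have hfin : Module.Finite A (K.homology (i + 1)) := by
    have := H25.TorLES.finite_tor B (i + 1) (ModuleCat.of A N) inferInstance
    exact Module.Finite.equiv (Balance.torObjIso Q (ModuleCat.of A N) (i + 1)).toLinearEquiv
  have hle : (⊤ : Submodule A (K.homology (i + 1))) ≤ IsLocalRing.maximalIdeal A • ⊤ := by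
    rintro c -
    obtain ⟨z, rfl⟩ := (ModuleCat.epi_iff_surjective (K.homologyπ (i + 1))).1 inferInstance c
    let z0 : Q.complex.X (i + 1) ⊗[A] N := K.iCycles (i + 1) z
    have hz0 : LinearMap.rTensor N (Q.complex.d (i + 1) i).hom z0 = 0 := by
      change (K.iCycles (i + 1) ≫ K.d (i + 1) i) z = 0
      rw [HomologicalComplex.iCycles_d]; rfl
    have hex := exact_mk (N := N) r
    have hs : Function.Surjective (r • (⊤ : Submodule A N)).mkQ := Submodule.mkQ_surjective _
    obtain ⟨w, hw⟩ := h i (LinearMap.lTensor _ (r • (⊤ : Submodule A N)).mkQ z0) (by rw [FlatOfTorsion.comm, hz0, map_zero])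
    obtain ⟨w', rfl⟩ := LinearMap.lTensor_surjective _ hs w
    obtain ⟨v, hv⟩ := (lTensor_exact (Q.complex.X (i + 1)) hex hs
      (z0 - LinearMap.rTensor N (Q.complex.d (i + 2) (i + 1)).hom w')).1 (by rw [map_sub, ← FlatOfTorsion.comm, hw, sub_self])
    rw [lTensor_smul_id] at hv
    have := Balance.flat_of_projective (Q.complex.X i)
    have hinj : Function.Injective (r • (LinearMap.id : N →ₗ[A] N)) := hr
    have hdv : LinearMap.rTensor N (Q.complex.d (i + 1) i).hom v = 0 :=
      Module.Flat.lTensor_preserves_injective_linearMap (M := Q.complex.X i) _ hinj (by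
        rw [lTensor_smul_id, lTensor_smul_id, ← map_smul, hv, map_sub, hz0, dd, sub_zero, smul_zero])
    obtain ⟨v', hv'⟩ : ∃ v', K.iCycles (i + 1) v' = v := by
      let a : ModuleCat.of A A ⟶ K.X (i + 1) := ModuleCat.ofHom (LinearMap.toSpanSingleton A _ v)
      have ha : a ≫ K.d (i + 1) i = 0 := by
        refine ModuleCat.hom_ext (LinearMap.ext_ring ?_)
        change (K.d (i + 1) i).hom ((1 : A) • v) = 0
        rw [one_smul]; exact hdv
      refine ⟨(K.liftCycles a i (by simp) ha) (1 : A), ?_⟩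
      rw [← ConcreteCategory.comp_apply, HomologicalComplex.liftCycles_i]
      exact one_smul A v
    have hz : z = r • v' + K.toCycles (i + 2) (i + 1) w' := by
      refine (ModuleCat.mono_iff_injective (K.iCycles (i + 1))).1 inferInstance ?_
      rw [map_add, map_smul, hv', ← ConcreteCategory.comp_apply, HomologicalComplex.toCycles_i]
      exact (sub_eq_iff_eq_add.1 hv.symm)
    rw [hz, map_add, map_smul, ← ConcreteCategory.comp_apply, HomologicalComplex.toCycles_comp_homologyπ]
    simp only [ModuleCat.hom_zero, LinearMap.zero_apply, add_zero]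
    exact Submodule.smul_mem_smul hrm Submodule.mem_top
  have hbot : (⊤ : Submodule A (K.homology (i + 1))) = ⊥ :=
    Submodule.eq_bot_of_le_smul_of_le_jacobson_bot _ _ Module.Finite.fg_top hle (IsLocalRing.maximalIdeal_le_jacobson _)
  have : Subsingleton (K.homology (i + 1)) := Submodule.subsingleton_iff (R := A) |>.1 (subsingleton_of_bot_eq_top hbot.symm)
  exact ModuleCat.isZero_of_subsingleton _

end Step

variable [IsNoetherianRing A] [IsLocalRing A]

theorem forall_z_iff [Module.Finite A B] :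
    ∀ (rs : List A) (N : Type u) [AddCommGroup N] [Module A N] [Module.Finite A N],
      IsWeaklyRegular N rs → (∀ r ∈ rs, r ∈ IsLocalRing.maximalIdeal A) →
      ((∀ i, Z Q.complex i (N ⧸ (Ideal.ofList rs • ⊤ : Submodule A N))) ↔
        IsWeaklyRegular ((B : Type u) ⊗[A] N) rs ∧ ∀ i, Z Q.complex i N)
  | [], N, _, _, _, _, _ => by
    let e := Submodule.quotEquivOfEqBot (Ideal.ofList ([] : List A) • (⊤ : Submodule A N)) (by simp)
    exact ⟨fun h => ⟨IsWeaklyRegular.nil _ _, fun i => Z_congr Q e (h i)⟩, fun h i => Z_congr Q e.symm (h.2 i)⟩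
  | r :: rs, N, _, _, _, hreg, hmem => by
    rw [isWeaklyRegular_cons_iff] at hreg
    have ih := forall_z_iff rs (QuotSMulTop r N) hreg.2 fun x hx => hmem x (List.mem_cons_of_mem _ hx)
    let e := Submodule.quotOfListConsSMulTopEquivQuotSMulTopInner N r rs
    let t := QuotSMulTop.tensorQuotSMulTopEquivQuotSMulTop r (B : Type u) N
    constructor
    · intro h
      obtain ⟨h1, h2⟩ := ih.1 fun i => Z_congr Q e (h i)
      exact ⟨(isWeaklyRegular_cons_iff _ _ _).2 ⟨regular_of_z_quotient Q r hreg.1 (h2 0),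
        (t.isWeaklyRegular_congr rs).1 h1⟩, z_of_z_quotient Q r hreg.1 (hmem r List.mem_cons_self) h2⟩
    · rintro ⟨h1, h2⟩ i
      rw [isWeaklyRegular_cons_iff] at h1
      exact Z_congr Q e.symm (ih.2 ⟨(t.isWeaklyRegular_congr rs).2 h1.2, z_quotient Q r hreg.1 h2 h1.1⟩ i)

/-- `rs` stays weakly regular on `B` iff the positive Tor of `A ⧸ (rs)` and `B` vanish. -/
theorem isWeaklyRegular_iff (B : Type u) [AddCommGroup B] [Module A B] [Module.Finite A B] (rs : List A)
    (hreg : IsWeaklyRegular A rs) (hmem : ∀ r ∈ rs, r ∈ IsLocalRing.maximalIdeal A)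
    (C : Type u) [AddCommGroup C] [Module A C] (e : (A ⧸ (Ideal.ofList rs • ⊤ : Submodule A A)) ≃ₗ[A] C) :
    IsWeaklyRegular (B ⊗[A] A) rs ↔ ∀ i : ℕ, 1 ≤ i →
      IsZero (((CategoryTheory.Tor (ModuleCat.{u} A) i).obj (ModuleCat.of A C)).obj (ModuleCat.of A B)) := by
  let Q := projectiveResolution (ModuleCat.of A B)
  have key := forall_z_iff Q rs A hreg hmem
  constructor
  · intro h i hi
    obtain ⟨i, rfl⟩ : ∃ k, i = k + 1 := ⟨i - 1, by omega⟩
    have hA : ∀ j, Z Q.complex j A := fun j z hz => by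
      obtain ⟨w, hw⟩ := Annihilate.kills_one_of_flat (A := A) (X := A) Q.complex
        (fun l => Balance.flat_of_projective _) Q.complex_exactAt_succ j (Nat.zero_le _) z hz
      exact ⟨w, hw.trans (one_smul _ _)⟩
    have hz := Z_congr Q e (key.2 ⟨h, hA⟩ i)
    refine IsZero.of_iso ?_ (Balance.torFlipIso _ _ (i + 1) ≪≫ Balance.torObjIso Q (ModuleCat.of A C) (i + 1))
    apply HomologicalComplex.ExactAt.isZero_homology
    rw [HomologicalComplex.exactAt_iff' _ (i + 2) (i + 1) i (by simp) (by simp),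
      ShortComplex.moduleCat_exact_iff_ker_sub_range]
    exact fun z hz' => hz z hz'
  · intro h
    refine (key.1 fun i => Z_congr Q e.symm ?_).1
    exact FlatOfTorsion.z_of_isZero_tor _ Q i (ModuleCat.of A C)
      ((h (i + 1) (by omega)).of_iso (Balance.torFlipIso _ _ (i + 1)))

end Groth.Agent.Lib.Tor.RegularTor
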