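import Groth.Agent.Lib.Tor.FlatOfTorsion
import Groth.Agent.Lib.Tor.Annihilate
import Groth.Agent.Lib.Tor.RegularTor
import Mathlib.Algebra.MonoidAlgebra.Basic
import Mathlib.Algebra.CharP.Defs
import Mathlib.Algebra.CharP.Lemmas
import Mathlib.RingTheory.TensorProduct.Basic
import Mathlib.LinearAlgebra.FreeModule.Basic
import Mathlib.RingTheory.Ideal.Quotient.Operations

/-!
# Perfect algebras over a perfect ring are Tor independent
-/

universe u

open CategoryTheory CategoryTheory.Limits TensorProduct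
open Groth.Agent.Lib.Tor.FlatOfTorsion (Z)

namespace Groth.Agent.Lib.Tor.PerfectTor

variable (p : ℕ) [hp : Fact p.Prime]

theorem add_pow_p {R : Type*} [CommRing R] (h : (p : R) = 0) (u v : R) : (u + v) ^ p = u ^ p + v ^ p := by
  obtain ⟨c, hc⟩ := exists_add_pow_prime_eq hp.out u v
  simp [hc, h]

theorem eq_zero_of_pow_p {R : Type*} [CommRing R] (h : (p : R) = 0) (hinj : Function.Injective fun x : R => x ^ p)
    {x : R} (hx : x ^ p = 0) : x = 0 :=
  hinj (by simpa [zero_pow hp.out.ne_zero] using hx)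

variable {A : Type u} [CommRing A] (hA : Function.Bijective fun a : A => a ^ p) (hpA : (p : A) = 0)

theorem natCast_eq_zero (R : Type*) [CommRing R] [Algebra A R] (hpA : (p : A) = 0) : (p : R) = 0 := by
  rw [← map_natCast (algebraMap A R), hpA, map_zero]

include hA hpA in
/-- The tensor product of two perfect algebras has injective Frobenius. -/
theorem tensor_frobenius_injective (S C : Type u) [CommRing S] [Algebra A S] [CommRing C] [Algebra A C]
    (hS : Function.Bijective fun x : S => x ^ p) (hC : Function.Bijective fun x : C => x ^ p) :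
    Function.Injective fun z : S ⊗[A] C => z ^ p := by
  let eA := Equiv.ofBijective _ hA
  let eS := Equiv.ofBijective _ hS
  let eC := Equiv.ofBijective _ hC
  have hrA : ∀ a, (eA.symm a) ^ p = a := eA.apply_symm_apply
  have hrS : ∀ a, (eS.symm a) ^ p = a := eS.apply_symm_apply
  have hrC : ∀ a, (eC.symm a) ^ p = a := eC.apply_symm_apply
  let rS : S →+ S :=
    { toFun := eS.symm
      map_zero' := hS.1 (by simp [hrS, zero_pow hp.out.ne_zero])
      map_add' := fun x y => hS.1 (by simp [hrS, add_pow_p p (natCast_eq_zero p S hpA)]) }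
  let rC : C →+ C :=
    { toFun := eC.symm
      map_zero' := hC.1 (by simp [hrC, zero_pow hp.out.ne_zero])
      map_add' := fun x y => hC.1 (by simp [hrC, add_pow_p p (natCast_eq_zero p C hpA)]) }
  have hsmulS : ∀ (a : A) (x : S), rS (a • x) = eA.symm a • rS x := fun a x =>
    hS.1 (by simp [rS, hrS, smul_pow, hrA])
  have hsmulC : ∀ (a : A) (x : C), rC (a • x) = eA.symm a • rC x := fun a x =>
    hC.1 (by simp [rC, hrC, smul_pow, hrA])
  let ψ : S ⊗[A] C →+ S ⊗[A] C := TensorProduct.liftAddHom
    { toFun := fun s => ((TensorProduct.mk A S C (rS s)).toAddMonoidHom.comp rC)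
      map_zero' := by ext; simp
      map_add' := fun x y => by ext; simp [TensorProduct.add_tmul] }
    (fun a s c => by simp [hsmulS, hsmulC, TensorProduct.smul_tmul])
  have key : ∀ z : S ⊗[A] C, ψ (z ^ p) = z := fun z => by
    induction z using TensorProduct.induction_on with
    | zero => simp [zero_pow hp.out.ne_zero]
    | tmul s c =>
      rw [Algebra.TensorProduct.tmul_pow]
      change rS (s ^ p) ⊗ₜ[A] rC (c ^ p) = _
      rw [show rS (s ^ p) = s from eS.symm_apply_apply s, show rC (c ^ p) = c from eC.symm_apply_apply c]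
    | add u v hu hv => rw [add_pow_p p (natCast_eq_zero p (S ⊗[A] C) hpA), map_add, hu, hv]
  exact fun u v h => by rw [← key u, ← key v]; exact congrArg ψ h

variable {C : Type u} [CommRing C] [Algebra A C] (hC : Function.Bijective fun x : C => x ^ p)
  (Q : ProjectiveResolution (ModuleCat.of A C))

include hA hpA hC in
/-- Killing all `p`-power roots of one element. -/
theorem z_step (S : Type u) [CommRing S] [Algebra A S] (hS : Function.Bijective fun x : S => x ^ p)
    (hZ : ∀ i, Z Q.complex i S) (φ : ℕ → S) (hφ : ∀ n, φ (n + 1) ^ p = φ n)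
    (T : Type u) [CommRing T] [Algebra A T] (π : S →ₐ[A] T) (hπ : Function.Surjective π)
    (hker : ∀ x, π x = 0 ↔ ∃ n g, x = g * φ n) : ∀ i, Z Q.complex i T := by
  have hSp := natCast_eq_zero p S hpA
  have hf : ∀ j, Module.Flat A (Q.complex.X j) := fun j => Balance.flat_of_projective _
  let K := LinearMap.ker π.toLinearMap
  let θ : ℕ → (S →ₗ[A] K) := fun n => (LinearMap.mulRight A (φ n)).codRestrict K fun g =>
    LinearMap.mem_ker.2 ((hker _).2 ⟨n, g, rfl⟩)
  let μ : ℕ → (S →ₗ[A] S) := fun n => LinearMap.mulRight A (φ (n + 1) ^ (p - 1))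
  have hpow : ∀ n, φ (n + 1) ^ (p - 1) * φ (n + 1) = φ n := fun n => by
    rw [← pow_succ, Nat.sub_add_cancel hp.out.one_le, hφ]
  have hθμ : ∀ n, θ (n + 1) ∘ₗ μ n = θ n := fun n => LinearMap.ext fun g => Subtype.ext (by
    simp [θ, μ, mul_assoc, hpow])
  have htrans : ∀ n m, n ≤ m → ∃ ν : S →ₗ[A] S, θ m ∘ₗ ν = θ n := fun n m h => by
    induction m, h using Nat.le_induction with
    | base => exact ⟨LinearMap.id, LinearMap.comp_id _⟩
    | succ m _ ih =>
      obtain ⟨ν, hν⟩ := ih
      exact ⟨μ m ∘ₗ ν, by rw [← LinearMap.comp_assoc, hθμ, hν]⟩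
  have hkill : ∀ n, μ n ∘ₗ (LinearMap.ker (θ n)).subtype = 0 := fun n => LinearMap.ext fun g => by
    have h0 : g.1 * φ n = 0 := congrArg Subtype.val (LinearMap.mem_ker.1 g.2)
    have h1 : g.1 * φ (n + 1) = 0 := eq_zero_of_pow_p p hSp hS.1 (by
      obtain ⟨q, hq⟩ := Nat.exists_eq_add_of_le hp.out.one_le
      rw [mul_pow, hφ, hq, pow_add, pow_one, mul_right_comm, h0, zero_mul])
    obtain ⟨q, hq⟩ := Nat.exists_eq_add_of_le hp.out.two_le
    simp [μ, hq, show 2 + q - 1 = 1 + q by omega, pow_add, ← mul_assoc, h1]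
  have hrep : ∀ (X : Type u) [AddCommGroup X] [Module A X] (z : X ⊗[A] K),
      ∃ n x, LinearMap.lTensor X (θ n) x = z := by
    intro X _ _ z
    induction z using TensorProduct.induction_on with
    | zero => exact ⟨0, 0, map_zero _⟩
    | tmul a k =>
      obtain ⟨n, g, hg⟩ := (hker k.1).1 (LinearMap.mem_ker.1 k.2)
      exact ⟨n, a ⊗ₜ g, by rw [LinearMap.lTensor_tmul]; exact congrArg _ (Subtype.ext hg.symm)⟩
    | add u v hu hv =>
      obtain ⟨n, x, rfl⟩ := hu
      obtain ⟨m, y, rfl⟩ := hv
      obtain ⟨ν, hν⟩ := htrans n (max n m) (le_max_left n m)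
      obtain ⟨ν', hν'⟩ := htrans m (max n m) (le_max_right n m)
      refine ⟨max n m, LinearMap.lTensor X ν x + LinearMap.lTensor X ν' y, ?_⟩
      rw [map_add, ← LinearMap.comp_apply, ← LinearMap.lTensor_comp, hν, ← LinearMap.comp_apply,
        ← LinearMap.lTensor_comp, hν']
  have hZK : ∀ i, Z Q.complex i K := fun i z hz => by
    obtain ⟨n, x, rfl⟩ := hrep _ z
    have := hf i
    have hex := Module.Flat.lTensor_exact (Q.complex.X i)
      (f := (LinearMap.ker (θ n)).subtype) (g := θ n) (LinearMap.exact_subtype_ker_map (θ n))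
    obtain ⟨k, hk⟩ := (hex (LinearMap.rTensor S (Q.complex.d (i + 1) i).hom x)).1
      (by rw [← FlatOfTorsion.comm, hz])
    obtain ⟨w, hw⟩ := hZ i (LinearMap.lTensor _ (μ n) x) (by
      rw [FlatOfTorsion.comm, ← hk, ← LinearMap.comp_apply, ← LinearMap.lTensor_comp, hkill,
        LinearMap.lTensor_zero, LinearMap.zero_apply])
    refine ⟨LinearMap.lTensor _ (θ (n + 1)) w, ?_⟩
    rw [FlatOfTorsion.comm, hw, ← LinearMap.comp_apply, ← LinearMap.lTensor_comp, hθμ]
  have hinjK : Function.Injective (LinearMap.lTensor C K.subtype) := by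
    rw [injective_iff_map_eq_zero]
    intro y hy
    obtain ⟨n, x, rfl⟩ := hrep _ y
    have hmul : ∀ (g : S) (x : C ⊗[A] S), LinearMap.lTensor C (LinearMap.mulRight A g) x = x * (1 ⊗ₜ g) := fun g x => by
      induction x using TensorProduct.induction_on with
      | zero => simp
      | tmul c s => simp
      | add u v hu hv => rw [map_add, hu, hv, add_mul]
    have h0 : x * ((1 : C) ⊗ₜ φ n) = 0 := by
      rw [← hmul, ← hy, ← LinearMap.comp_apply, ← LinearMap.lTensor_comp]
      rfl
    have h1 : x * ((1 : C) ⊗ₜ φ (n + 1)) = 0 := by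
      refine eq_zero_of_pow_p p (natCast_eq_zero p _ hpA) (tensor_frobenius_injective p hA hpA C S hC hS) ?_
      obtain ⟨q, hq⟩ := Nat.exists_eq_add_of_le hp.out.one_le
      rw [mul_pow, Algebra.TensorProduct.tmul_pow, one_pow, hφ, hq, pow_add, pow_one, mul_right_comm, h0, zero_mul]
    have h2 : LinearMap.lTensor C (μ n) x = 0 := by
      obtain ⟨q, hq⟩ := Nat.exists_eq_add_of_le hp.out.two_le
      rw [hmul, hq, show 2 + q - 1 = 1 + q by omega, pow_add, pow_one]
      rw [show (1 : C) ⊗ₜ[A] (φ (n + 1) * φ (n + 1) ^ q) = ((1 : C) ⊗ₜ φ (n + 1)) * ((1 : C) ⊗ₜ (φ (n + 1) ^ q)) by simp,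
        ← mul_assoc, h1, zero_mul]
    rw [← hθμ n, LinearMap.lTensor_comp, LinearMap.comp_apply, h2, map_zero]
  have hex : Function.Exact K.subtype π.toLinearMap := LinearMap.exact_subtype_ker_map _
  intro i
  cases i with
  | succ i => exact Z.right hf K.subtype π.toLinearMap Subtype.val_injective hex hπ (hZ (i + 1)) (hZK i)
  | zero =>
    intro z hz
    obtain ⟨u, rfl⟩ := LinearMap.lTensor_surjective _ (g := π.toLinearMap) hπ z
    obtain ⟨y, hy⟩ := (lTensor_exact (Q.complex.X 0) hex hπ
      (LinearMap.rTensor S (Q.complex.d 1 0).hom u)).1 (by rw [← FlatOfTorsion.comm, hz])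
    let ε₀ : Q.complex.X 0 →ₗ[A] C := (Q.π.f 0).hom
    have hεs : Function.Surjective ε₀ := (ModuleCat.epi_iff_surjective (Q.π.f 0)).1 inferInstance
    have hεe : Function.Exact (Q.complex.d 1 0).hom ε₀ :=
      LinearMap.exact_iff.2 ((ShortComplex.moduleCat_exact_iff_range_eq_ker _).1 (Balance.resolution_exact_zero Q)).symm
    have h0 : LinearMap.rTensor K ε₀ y = 0 := hinjK (by
      rw [map_zero]
      refine (LinearMap.congr_fun ((LinearMap.lTensor_comp_rTensor _ _ _).trans
        (LinearMap.rTensor_comp_lTensor _ _ _).symm) y).trans ?_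
      rw [LinearMap.comp_apply, hy]
      exact (rTensor_exact (M := Q.complex.X 1) (N := Q.complex.X 0) S hεe hεs).apply_apply_eq_zero u)
    obtain ⟨v, hv⟩ := (rTensor_exact (M := Q.complex.X 1) (N := Q.complex.X 0) K hεe hεs y).1 h0
    obtain ⟨w, hw⟩ := hZ 0 (u - LinearMap.lTensor _ K.subtype v) (by
      rw [map_sub, FlatOfTorsion.comm, hv, hy, sub_self])
    refine ⟨LinearMap.lTensor _ π.toLinearMap w, ?_⟩
    rw [FlatOfTorsion.comm, hw, map_sub, (lTensor_exact (Q.complex.X 1) hex hπ).apply_apply_eq_zero, sub_zero]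

include hA hpA hC in
theorem z_perfect (B : Type u) [CommRing B] [Algebra A B] (hB : Function.Bijective fun x : B => x ^ p) :
    ∀ i, Z Q.complex i B := by
  classical
  let R := MonoidAlgebra A B
  have hRp : (p : R) = 0 := natCast_eq_zero p R hpA
  let eA := Equiv.ofBijective _ hA
  let eB := Equiv.ofBijective _ hB
  have hrA : ∀ a, (eA.symm a) ^ p = a := eA.apply_symm_apply
  have hroot : ∀ x : R, ∃ y, y ^ p = x := fun x => by
    induction x using MonoidAlgebra.induction_linear with
    | zero => exact ⟨0, zero_pow hp.out.ne_zero⟩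
    | add u v hu hv =>
      obtain ⟨a, rfl⟩ := hu; obtain ⟨b, rfl⟩ := hv
      exact ⟨a + b, add_pow_p p hRp a b⟩
    | single b a =>
      refine ⟨MonoidAlgebra.single (eB.symm b) (eA.symm a), ?_⟩
      rw [MonoidAlgebra.single_pow, hrA, show (eB.symm b) ^ p = b from eB.apply_symm_apply b]
  have hinjR : ∀ x : R, x ^ p = 0 → x = 0 := by
    intro x hx
    have key : ∀ (x : R) (b : B), (x ^ p).coeff (b ^ p) = (x.coeff b) ^ p := by
      intro x
      induction x using MonoidAlgebra.induction_linear with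
      | zero => intro b; simp [zero_pow hp.out.ne_zero]
      | add u v hu hv =>
        intro b
        rw [add_pow_p p hRp, MonoidAlgebra.coeff_add, Finsupp.add_apply, hu, hv, MonoidAlgebra.coeff_add,
          Finsupp.add_apply, add_pow_p p hpA]
      | single c a =>
        intro b
        rw [MonoidAlgebra.single_pow, MonoidAlgebra.coeff_single, MonoidAlgebra.coeff_single]
        by_cases h : c = b
        · subst h; simp
        · rw [Finsupp.single_eq_of_ne' h, Finsupp.single_eq_of_ne' (fun h' => h (hB.1 h')), zero_pow hp.out.ne_zero]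
    refine MonoidAlgebra.coeff_injective (Finsupp.ext fun b => ?_)
    simp only [MonoidAlgebra.coeff_zero, Finsupp.zero_apply]
    refine eq_zero_of_pow_p p hpA hA.1 ?_
    rw [← key, hx]; simp
  let π : R →ₐ[A] B := MonoidAlgebra.lift A B B (MonoidHom.id B)
  have hπ : Function.Surjective π := fun b => ⟨MonoidAlgebra.single b 1, (MonoidAlgebra.lift_single _ _ _).trans (by simp)⟩
  have main : ∀ s : Finset R, (∀ x ∈ s, π x = 0) → ∃ I : Ideal R, (↑s ⊆ (I : Set R)) ∧ I ≤ RingHom.ker π.toRingHom ∧
      (∀ x, x ^ p ∈ I → x ∈ I) ∧ ∀ i, Z Q.complex i (R ⧸ I) := by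
    intro s
    induction s using Finset.induction_on with
    | empty =>
      intro _
      refine ⟨⊥, by simp, bot_le, fun x hx => hinjR x hx, fun i => ?_⟩
      have : Module.Flat A (R ⧸ (⊥ : Ideal R)) :=
        Module.Flat.of_linearEquiv (AlgEquiv.quotientBot A R).toLinearEquiv
      intro z hz
      obtain ⟨w, hw⟩ := Annihilate.kills_one_of_flat (A := A) (X := R ⧸ (⊥ : Ideal R)) Q.complex
        (fun l => Balance.flat_of_projective _) Q.complex_exactAt_succ i (Nat.zero_le _) z hz
      exact ⟨w, hw.trans (one_smul _ _)⟩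
    | insert f s _ ih =>
      intro hs
      obtain ⟨I, hsI, hIK, hrad, hZ⟩ := ih fun x hx => hs x (Finset.mem_insert_of_mem hx)
      choose root hrootspec using hroot
      let φ : ℕ → R := fun n => root^[n] f
      have hφ : ∀ n, φ (n + 1) ^ p = φ n := fun n => by
        change (root^[n + 1] f) ^ p = _
        rw [Function.iterate_succ_apply', hrootspec]
      have hφK : ∀ n, π (φ n) = 0 := fun n => by
        induction n with
        | zero => exact hs f (Finset.mem_insert_self f s)
        | succ n ih =>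
          exact eq_zero_of_pow_p p (natCast_eq_zero p B hpA) hB.1 (by rw [← map_pow, hφ, ih])
      have hmono : ∀ n m, n ≤ m → ∃ g, φ n = g * φ m := fun n m h => by
        induction m, h using Nat.le_induction with
        | base => exact ⟨1, (one_mul _).symm⟩
        | succ m _ ih =>
          obtain ⟨g, hg⟩ := ih
          refine ⟨g * φ (m + 1) ^ (p - 1), ?_⟩
          rw [mul_assoc, ← pow_succ, Nat.sub_add_cancel hp.out.one_le, hφ, hg]
      let J : Ideal R :=
        { carrier := {x | ∃ n g, x - g * φ n ∈ I}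
          zero_mem' := ⟨0, 0, by simp⟩
          add_mem' := by
            rintro x y ⟨n, g, hg⟩ ⟨m, g', hg'⟩
            obtain ⟨a, ha⟩ := hmono n (max n m) (le_max_left n m)
            obtain ⟨b, hb⟩ := hmono m (max n m) (le_max_right n m)
            refine ⟨max n m, g * a + g' * b, ?_⟩
            convert I.add_mem hg hg' using 1
            rw [ha, hb]; ring
          smul_mem' := by
            rintro c x ⟨n, g, hg⟩
            refine ⟨n, c * g, ?_⟩
            convert I.mul_mem_left c hg using 1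
            rw [smul_eq_mul]; ring }
      have hIJ : I ≤ J := fun x hx => ⟨0, 0, by simpa using hx⟩
      refine ⟨J, ?_, ?_, ?_, ?_⟩
      · intro x hx
        rcases Finset.mem_insert.1 hx with rfl | hx
        · exact ⟨0, 1, by simp [φ]⟩
        · exact hIJ (hsI hx)
      · rintro x ⟨n, g, hg⟩
        have h1 : π (x - g * φ n) = 0 := hIK hg
        rw [map_sub, map_mul, hφK, mul_zero, sub_zero] at h1
        exact h1
      · rintro x ⟨n, g, hg⟩
        refine ⟨n + 1, root g, hrad _ ?_⟩
        have hneg : (x - root g * φ (n + 1)) ^ p = x ^ p - g * φ n := by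
          have := add_pow_p p hRp (x - root g * φ (n + 1)) (root g * φ (n + 1))
          rw [sub_add_cancel, mul_pow, hrootspec, hφ] at this
          rw [this, add_sub_cancel_right]
        rw [hneg]; exact hg
      · have hSb : Function.Bijective fun y : R ⧸ I => y ^ p := by
          constructor
          · intro a b hab
            obtain ⟨a, rfl⟩ := Ideal.Quotient.mk_surjective a
            obtain ⟨b, rfl⟩ := Ideal.Quotient.mk_surjective b
            refine Ideal.Quotient.eq.2 (hrad _ ?_)
            have hab' : Ideal.Quotient.mk I a ^ p = Ideal.Quotient.mk I b ^ p := hab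
            rw [← map_pow, ← map_pow, Ideal.Quotient.eq] at hab'
            have h := add_pow_p p hRp (a - b) b
            rw [sub_add_cancel] at h
            rwa [show (a - b) ^ p = a ^ p - b ^ p by rw [h, add_sub_cancel_right]]
          · intro a
            obtain ⟨a, rfl⟩ := Ideal.Quotient.mk_surjective a
            exact ⟨Ideal.Quotient.mk I (root a), by change _ ^ p = _; rw [← map_pow, hrootspec]⟩
        refine z_step p hA hpA hC Q (R ⧸ I) hSb hZ (fun n => Ideal.Quotient.mk I (φ n))
          (fun n => by rw [← map_pow, hφ]) (R ⧸ J) (Ideal.Quotient.factorₐ A hIJ)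
          (Ideal.Quotient.factor_surjective hIJ) fun y => ?_
        obtain ⟨y, rfl⟩ := Ideal.Quotient.mk_surjective y
        refine Iff.trans Ideal.Quotient.eq_zero_iff_mem ⟨fun ⟨n, g, hg⟩ => ?_, fun ⟨n, g, hg⟩ => ?_⟩
        · exact ⟨n, Ideal.Quotient.mk I g, by rw [← map_mul]; exact Ideal.Quotient.eq.2 hg⟩
        · obtain ⟨g, rfl⟩ := Ideal.Quotient.mk_surjective g
          exact ⟨n, g, Ideal.Quotient.eq.1 (hg.trans (map_mul _ _ _).symm)⟩
  intro i z hz
  have hex : Function.Exact (LinearMap.ker π.toLinearMap).subtype π.toLinearMap := LinearMap.exact_subtype_ker_map _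
  obtain ⟨x, rfl⟩ := LinearMap.lTensor_surjective _ (g := π.toLinearMap) hπ z
  obtain ⟨k, hk⟩ := (lTensor_exact (Q.complex.X i) hex hπ
    (LinearMap.rTensor R (Q.complex.d (i + 1) i).hom x)).1 (by rw [← FlatOfTorsion.comm, hz])
  obtain ⟨s, hs, hks⟩ : ∃ s : Finset R, (∀ y ∈ s, π y = 0) ∧ ∀ I : Ideal R, ↑s ⊆ (I : Set R) →
      LinearMap.lTensor (Q.complex.X i) (Ideal.Quotient.mkₐ A I).toLinearMap
        (LinearMap.lTensor _ (LinearMap.ker π.toLinearMap).subtype k) = 0 := by
    clear hk
    induction k using TensorProduct.induction_on with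
    | zero => exact ⟨∅, by simp, fun I _ => by simp⟩
    | tmul a y =>
      refine ⟨{y.1}, fun x hx => (Finset.mem_singleton.1 hx) ▸ LinearMap.mem_ker.1 y.2, fun I hI => ?_⟩
      have : Ideal.Quotient.mk I y.1 = 0 := Ideal.Quotient.eq_zero_iff_mem.2 (hI (by simp))
      simp [this]
    | add u v hu hv =>
      obtain ⟨s, hs, hs'⟩ := hu; obtain ⟨t, ht, ht'⟩ := hv
      refine ⟨s ∪ t, fun y hy => (Finset.mem_union.1 hy).elim (hs y) (ht y), fun I hI => ?_⟩
      rw [map_add, map_add, hs' I fun y hy => hI (Finset.mem_union_left _ hy),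
        ht' I fun y hy => hI (Finset.mem_union_right _ hy), add_zero]
  obtain ⟨I, hsI, hIK, -, hZI⟩ := main s hs
  obtain ⟨w, hw⟩ := hZI i (LinearMap.lTensor _ (Ideal.Quotient.mkₐ A I).toLinearMap x) (by
    rw [FlatOfTorsion.comm, ← hk, hks I hsI])
  let F : (R ⧸ I) →ₗ[A] B := (Ideal.Quotient.liftₐ I π fun y hy => hIK hy).toLinearMap
  refine ⟨LinearMap.lTensor _ F w, ?_⟩
  rw [FlatOfTorsion.comm, hw, ← LinearMap.comp_apply, ← LinearMap.lTensor_comp]
  rfl

end Groth.Agent.Lib.Tor.PerfectTor
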