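import Groth.Agent.Lib.Tor.Chart
import Mathlib.RingTheory.ReesAlgebra
import Mathlib.Data.Fintype.Card
import Mathlib.RingTheory.Finiteness.Ideal

/-!
# Uniform annihilation of higher Tor against powers of an ideal
-/

universe u

open MvPolynomial

namespace Groth.Agent.Lib.Tor.Rees

open Groth.Agent.Lib.Tor.Annihilate Groth.Agent.Lib.Tor.Chart

variable {A : Type u} [CommRing A]

theorem Kills.mono {s : A} {n m : ℕ} {X : Type u} [AddCommGroup X] [Module A X] (h : Kills s n X) (hnm : n ≤ m) :
    Kills s m X := fun P hf he i hi => h P hf he i (hnm.trans hi)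

variable [IsNoetherianRing A]

/-- The chart at `a` of the Rees algebra. -/
theorem kills_reesAlgebra {r : ℕ} (a : A) (b : Fin r → A) (I : Ideal A)
    (hI : I = Ideal.span (insert a (Set.range b))) : ∃ c, Kills (a ^ c) r (reesAlgebra I) := by
  have ha : a ∈ I := hI ▸ Ideal.subset_span (Set.mem_insert _ _)
  have hb : ∀ l, b l ∈ I := fun l => hI ▸ Ideal.subset_span (Set.mem_insert_of_mem _ ⟨l, rfl⟩)
  have hmem : ∀ x ∈ I, Polynomial.monomial 1 x ∈ reesAlgebra I := fun x hx =>
    reesAlgebra.monomial_mem.2 (by rwa [pow_one])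
  let v : Fin r ⊕ PUnit.{u + 1} → reesAlgebra I :=
    Sum.elim (fun l => ⟨_, hmem _ (hb l)⟩) (fun _ => ⟨_, hmem _ ha⟩)
  let π : MvPolynomial (Fin r ⊕ PUnit.{u + 1}) A →ₐ[A] reesAlgebra I := aeval v
  refine kills_of_surjective a (fun l => C (b l) * X PUnit.unit) π ?_ ?_ ?_
  · have hle : reesAlgebra I ≤ ((reesAlgebra I).val.comp π).range := by
      refine (adjoin_monomial_eq_reesAlgebra I).ge.trans (Algebra.adjoin_le ?_)
      rintro _ ⟨x, hx, rfl⟩
      rw [SetLike.mem_coe, hI] at hx
      induction hx using Submodule.span_induction with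
      | mem y hy =>
        rcases hy with rfl | ⟨l, rfl⟩
        · exact ⟨X (Sum.inr PUnit.unit), by simp [π, v]⟩
        · exact ⟨X (Sum.inl l), by simp [π, v]⟩
      | zero => rw [map_zero]; exact zero_mem _
      | add y z _ _ hy hz => rw [map_add]; exact add_mem hy hz
      | smul c y _ hy => rw [map_smul]; exact Subalgebra.smul_mem _ hy c
    intro x
    obtain ⟨p, hp⟩ := hle x.2
    exact ⟨p, Subtype.ext hp⟩
  · intro l
    apply Subtype.ext
    simp [π, v, rel, Polynomial.C_mul_monomial, mul_comm a]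
  · intro p hp
    let χ : Polynomial (Localization.Away a) →+* MvPolynomial (Fin r ⊕ PUnit.{u + 1}) (Localization.Away a) :=
      Polynomial.eval₂RingHom C (C (IsLocalization.Away.invSelf (S := Localization.Away a) a) * X (Sum.inr PUnit.unit))
    have key : elim a (fun l => C (b l) * X PUnit.unit) r =
        (χ.comp (Polynomial.mapRingHom (algebraMap A (Localization.Away a)))).comp
          ((reesAlgebra I).val.comp π).toRingHom := by
      refine MvPolynomial.ringHom_ext (fun c => ?_) (fun w => ?_)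
      · simp [elim, π, χ]
      · rcases w with l | ⟨⟩
        · simp [elim, π, v, χ, Polynomial.map_monomial, mul_left_comm]
        · simp [elim, π, v, χ, Polynomial.map_monomial, ← mul_assoc, C_inv_mul]
    rw [key]
    simp [hp]

theorem kills_pow {r : ℕ} (a : A) (b : Fin r → A) (I : Ideal A)
    (hI : I = Ideal.span (insert a (Set.range b))) :
    ∃ c, ∀ q : ℕ, Kills (a ^ c) (r + 1) (A ⧸ I ^ q) := by
  obtain ⟨c, hc⟩ := kills_reesAlgebra a b I hI
  refine ⟨c, fun q => ?_⟩
  let f : ↥(I ^ q) →ₗ[A] reesAlgebra I :=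
    { toFun := fun x => ⟨Polynomial.monomial q x.1, reesAlgebra.monomial_mem.2 x.2⟩
      map_add' := fun x y => Subtype.ext (by simp)
      map_smul' := fun c x => Subtype.ext (by simp [Polynomial.smul_monomial]) }
  let g : reesAlgebra I →ₗ[A] ↥(I ^ q) :=
    { toFun := fun p => ⟨p.1.coeff q, (mem_reesAlgebra_iff I p.1).1 p.2 q⟩
      map_add' := fun x y => Subtype.ext (by simp)
      map_smul' := fun c x => Subtype.ext (by simp) }
  have hY : Kills (a ^ c * 1) r ↥(I ^ q) := hc.factor f g 1 fun x => Subtype.ext (by simp [f, g])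
  have hA : Kills (1 : A) r A := Kills.mono kills_one_of_flat (Nat.zero_le r)
  have := hY.coker hA (Submodule.subtype (I ^ q)) (Submodule.mkQ (I ^ q)) Subtype.val_injective
    (Submodule.mkQ_surjective _) (LinearMap.exact_subtype_mkQ _)
  simpa using this

/-- Uniform annihilation by a power of the ideal. -/
theorem exists_pow_annihilates (s : Finset A) :
    ∃ c : ℕ, ∀ (M : Type u) [AddCommGroup M] [Module A M] (i q : ℕ), s.card < i →
      ∀ x ∈ Ideal.span (s : Set A) ^ c,
        ∀ y : ((CategoryTheory.Tor (ModuleCat.{u} A) i).obj (ModuleCat.of A M)).obj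
          (ModuleCat.of A (A ⧸ Ideal.span (s : Set A) ^ q)), x • y = 0 := by
  classical
  have key : ∀ a ∈ s, ∃ c, ∀ q, Kills (a ^ c) s.card (A ⧸ Ideal.span (s : Set A) ^ q) := by
    intro a ha
    let e := (s.erase a).equivFin.symm
    obtain ⟨c, hc⟩ := kills_pow a (fun l => (e l).1) (Ideal.span (s : Set A)) (by
      congr 1
      have : Set.range (fun l => (e l).1) = (s.erase a : Set A) := by
        ext x
        exact ⟨fun ⟨l, hl⟩ => hl ▸ (e l).2, fun hx => ⟨e.symm ⟨x, hx⟩, by simp⟩⟩
      rw [this, ← Finset.coe_insert, Finset.insert_erase ha])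
    refine ⟨c, fun q => ?_⟩
    rw [← Finset.card_erase_add_one ha]
    exact hc q
  choose! cf hcf using key
  let C₀ := s.sup cf
  obtain ⟨c, hc⟩ := Ideal.exists_pow_le_of_le_radical_of_fg
    (I := Ideal.span (s : Set A)) (J := Ideal.span ((fun a => a ^ C₀) '' (s : Set A)))
    (Ideal.span_le.2 fun a ha => ⟨C₀, Ideal.subset_span ⟨a, ha, rfl⟩⟩) ⟨s, rfl⟩
  refine ⟨c, fun M _ _ i q hi x hx y => ?_⟩
  have hx' := hc hx
  clear hx
  induction hx' using Submodule.span_induction with
  | mem z hz =>
    obtain ⟨a, ha, rfl⟩ := hz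
    obtain ⟨d, hd⟩ := Nat.exists_eq_add_of_le (Finset.le_sup (f := cf) ha)
    change a ^ C₀ • y = 0
    rw [show C₀ = cf a + d from hd, add_comm, pow_add, mul_smul,
      smul_tor_eq_zero (hcf a ha q) M i hi y, smul_zero]
  | zero => exact zero_smul A y
  | add z w _ _ hz hw => rw [add_smul, hz, hw, add_zero]
  | smul r z _ hz => rw [smul_eq_mul, mul_smul, hz, smul_zero]

end Groth.Agent.Lib.Tor.Rees
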